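/-
Split BN-pairs of characteristic `p` with a torus parametrised by the simple coroots: the group theory used
by the classification of the irreducible representations by weights.
-/
import Cfsg.Agent.Lib.RootBN.Setup
import Cfsg.Agent.Lib.Chev.SL2

set_option autoImplicit false
set_option linter.unusedSectionVars false

namespace Cfsg.Agent.CurtisRichen

open Cfsg.Agent.RootBN Cfsg.Agent.RootBN.Data

variable {M : Type*} [Group M] {ι κ : Type*} [DecidableEq κ] {F : Type*} [Field F]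

open Classical in
/-- The coroot element of a field element, `1` at zero. -/
noncomputable def hel (tor : (κ → Fˣ) →* M) (i : κ) (a : F) : M :=
  if ha : a = 0 then 1 else tor (Pi.mulSingle i (Units.mk0 a ha))

/-- A group with root subgroups, simple root subgroups parametrised by `F`, and torus `(Fˣ)^κ`. -/
structure Setup (D : Data M ι κ) (F : Type*) [Field F] (p : ℕ) where
  /-- the axioms of the root subgroups -/
  ax : D.Axioms
  top : D.grp = ⊤
  /-- simple root elements -/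
  x : κ → F → M
  X_eq : ∀ i y, y ∈ D.X (D.simp i) ↔ ∃ t, x i t = y
  x_inj : ∀ i, Function.Injective (x i)
  /-- the torus -/
  tor : (κ → Fˣ) →* M
  tor_inj : Function.Injective tor
  H_eq : ∀ h, h ∈ D.H ↔ ∃ c, tor c = h
  rels : ∀ i, Chev.SL2Rels (x i) (hel tor i) (D.nn i)
  conj_tor : ∀ i c, ∃ a, D.nn i * tor c * (D.nn i)⁻¹ = tor (c * Pi.mulSingle i a)
  U_inf_H : D.U ⊓ D.H = ⊥
  isPGroup : IsPGroup p D.U
  /-- a word for the longest element -/
  l0 : List κ
  longest : ∀ r, D.Pos r → ¬ D.Pos (D.wl l0 r)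

variable {D : Data M ι κ} {p : ℕ} (S : Setup D F p)

namespace Setup

omit [DecidableEq κ] in
theorem mk_eq_iff_mem {a b : M} :
    (QuotientGroup.mk a : M ⧸ D.U) = QuotientGroup.mk b ↔ ∃ u ∈ D.U, b = a * u := by
  rw [QuotientGroup.eq]
  exact ⟨fun h => ⟨_, h, by group⟩, fun ⟨u, hu, e⟩ => by simpa [e] using hu⟩

omit [DecidableEq κ] in
theorem mem_cell_mul {n u v : M} {σ : Equiv.Perm ι} (hn : n ∈ D.N) (hσ : D.Acts n σ) (hu : u ∈ D.B)
    (hv : v ∈ D.B) : u * n * v ∈ D.cell σ :=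
  mul_mem_cell (mem_cell_of hn hσ) hu hv

/-- A word with letters in `K`. -/
def KW (K : Set κ) (l : List κ) : Prop := ∀ j ∈ l, j ∈ K

theorem KW.reverse {K : Set κ} {l : List κ} (h : KW K l) : KW K l.reverse := fun j hj =>
  h j (List.mem_reverse.1 hj)

theorem KW.append {K : Set κ} {l l' : List κ} (h : KW K l) (h' : KW K l') : KW K (l ++ l') := fun j hj =>
  (List.mem_append.1 hj).elim (h j) (h' j)

include S

/-- The coroot of a simple root. -/
def h (i : κ) (a : Fˣ) : M := S.tor (Pi.mulSingle i a)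

/-- The longest element. -/
def n0 : M := D.nw S.l0

theorem n0_mem : S.n0 ∈ D.N := nw_mem_N _

theorem tor_mem (c : κ → Fˣ) : S.tor c ∈ D.H := (S.H_eq _).2 ⟨c, rfl⟩

theorem h_mem (i : κ) (a : Fˣ) : S.h i a ∈ D.H := S.tor_mem _

theorem H_comm {h h' : M} (hh : h ∈ D.H) (hh' : h' ∈ D.H) : h * h' = h' * h := by
  obtain ⟨c, rfl⟩ := (S.H_eq _).1 hh
  obtain ⟨c', rfl⟩ := (S.H_eq _).1 hh'
  rw [← map_mul, ← map_mul, mul_comm]

theorem hel_eq (i : κ) {a : F} (ha : a ≠ 0) : hel S.tor i a = S.h i (Units.mk0 a ha) := dif_neg ha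

theorem h_mul (i : κ) (a b : Fˣ) : S.h i a * S.h i b = S.h i (a * b) := by
  rw [h, h, h, ← map_mul, Pi.mulSingle_mul]

theorem x_add (i : κ) (s t : F) : S.x i s * S.x i t = S.x i (s + t) := (S.rels i).add s t

theorem x_zero (i : κ) : S.x i 0 = 1 := (S.rels i).x_zero

theorem x_inv (i : κ) (t : F) : (S.x i t)⁻¹ = S.x i (-t) :=
  inv_eq_of_mul_eq_one_right (by rw [S.x_add, add_neg_cancel, S.x_zero])

theorem x_mem_X (i : κ) (t : F) : S.x i t ∈ D.X (D.simp i) := (S.X_eq _ _).2 ⟨t, rfl⟩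

theorem x_mem_U (i : κ) (t : F) : S.x i t ∈ D.U := X_le_U (S.ax.pos_simp i) (S.x_mem_X i t)

theorem nn_sq (i : κ) : D.nn i * D.nn i = S.h i (-1) := by
  rw [(S.rels i).nn, S.hel_eq i (neg_ne_zero.2 one_ne_zero)]
  congr 1
  exact Units.ext rfl

theorem nn_h (i : κ) (a : Fˣ) : D.nn i * S.h i a = S.h i a⁻¹ * D.nn i := by
  have e := (S.rels i).nH a a.ne_zero
  rw [S.hel_eq i a.ne_zero, S.hel_eq i (inv_ne_zero a.ne_zero)] at e
  convert e using 2
  · congr 1; exact Units.ext rfl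
  · congr 1; exact Units.ext (by simp)

theorem h_x (i : κ) (a : Fˣ) (t : F) : S.h i a * S.x i t = S.x i (a * a * t) * S.h i a := by
  have e := (S.rels i).conj a t a.ne_zero
  rwa [S.hel_eq i a.ne_zero, show Units.mk0 (a : F) a.ne_zero = a from Units.ext rfl] at e

theorem flip (i : κ) (u : Fˣ) : D.nn i * S.x i ((u : F)⁻¹) * (D.nn i)⁻¹ =
    S.x i (-(u : F)) * S.h i u * D.nn i * S.x i (-(u : F)) := by
  have e := (S.rels i).flip u u.ne_zero
  rwa [S.hel_eq i u.ne_zero, show Units.mk0 (u : F) u.ne_zero = u from Units.ext rfl] at e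

theorem inv_conj_tor (i : κ) (c : κ → Fˣ) :
    ∃ a, (D.nn i)⁻¹ * S.tor c * D.nn i = S.tor (c * Pi.mulSingle i a) := by
  obtain ⟨a, ha⟩ := S.conj_tor i c
  refine ⟨a, ?_⟩
  rw [← ha]
  have e : (D.nn i)⁻¹ * S.tor c * D.nn i =
      D.nn i * ((D.nn i * D.nn i)⁻¹ * S.tor c * (D.nn i * D.nn i)) * (D.nn i)⁻¹ := by group
  rw [e, S.H_comm (D.H.inv_mem (S.ax.nn_sq i)) (S.tor_mem c), mul_assoc (S.tor c), inv_mul_cancel, mul_one]

/-! ### Cells and orbits -/

theorem refl_ne_one (i : κ) : D.refl i ≠ 1 := fun h => by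
  have := S.ax.refl_simp i
  rw [h, Equiv.Perm.one_apply] at this
  exact not_pos_opp_simp S.ax i (this ▸ S.ax.pos_simp i)

/-- Cosets of an ascending product determine their factors. -/
theorem inj_step [Finite ι] {i : κ} (l : List κ) (hpos : D.Pos ((D.wl l)⁻¹ (D.simp i))) {y y' : M}
    (hy : y ∈ D.cell (D.wl l)) (hy' : y' ∈ D.cell (D.wl l)) {t s : F}
    (e : (QuotientGroup.mk (S.x i t * D.nn i * y) : M ⧸ D.U) = QuotientGroup.mk (S.x i s * D.nn i * y')) :
    t = s ∧ (QuotientGroup.mk y : M ⧸ D.U) = QuotientGroup.mk y' := by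
  obtain ⟨u, hu, he⟩ := mk_eq_iff_mem.1 e
  have hy'' : y' = (D.nn i)⁻¹ * S.x i (-s + t) * D.nn i * y * u := by
    rw [← S.x_add, ← S.x_inv]
    calc y' = (D.nn i)⁻¹ * (S.x i s)⁻¹ * (S.x i s * D.nn i * y') := by group
      _ = _ := by rw [he]; group
  rcases eq_or_ne t s with rfl | hts
  · rw [neg_add_cancel, S.x_zero, mul_one, inv_mul_cancel, one_mul] at hy''
    exact ⟨rfl, mk_eq_iff_mem.2 ⟨u, hu, hy''⟩⟩
  exfalso
  set d := S.x i (-s + t) with hd
  have hd1 : d ≠ 1 := fun h => hts (by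
    have := S.x_inj i (h.trans (S.x_zero i).symm)
    linear_combination this)
  have hz : (D.nn i)⁻¹ * d * D.nn i ∈ D.X (D.opp (D.simp i)) := by
    have := ((acts_nn S.ax i).inv (D.simp i) d).2 (S.x_mem_X _ _)
    rwa [inv_inv, refl_inv S.ax, S.ax.refl_simp] at this
  obtain ⟨a, ha, h0, hh0, b, hb, ez⟩ := S.ax.rank_one i _ hz (fun h => hd1 (by
    simpa [inv_mul_eq_one, mul_assoc] using congrArg (fun w => D.nn i * w * (D.nn i)⁻¹) h))
  have h1 : y' ∈ D.cell (D.refl i * D.wl l) := by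
    rw [hy'', ez]
    have := mul_mem_cell (nn_mul_cell_pos S.ax hpos
      (mul_mem_cell hy (X_simp_le_B S.ax i hb) D.B.one_mem))
      (D.B.mul_mem (X_simp_le_B S.ax i ha) (H_le_B hh0)) (U_le_B hu)
    simpa [mul_assoc] using this
  have h3 := cell_disjoint S.ax (l := l) (l' := i :: l) hy' (by simpa using h1)
  rw [wl_cons, eq_comm, mul_eq_right] at h3
  exact S.refl_ne_one i h3

/-- The coset `n U` determines its `H`-part within the orbit of `U`. -/
theorem eq_one_of_orbit [Finite ι] {n h u : M} (hn : n ∈ D.N) (hh : h ∈ D.H) (hu : u ∈ D.U)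
    (e : (QuotientGroup.mk (u * n) : M ⧸ D.U) = QuotientGroup.mk (n * h)) : h = 1 := by
  suffices key : ∀ k, ∀ l : List κ, D.inv (D.wl l) = k → ∀ n, n ∈ D.N → D.Acts n (D.wl l) → ∀ h ∈ D.H,
      ∀ u ∈ D.U, (QuotientGroup.mk (u * n) : M ⧸ D.U) = QuotientGroup.mk (n * h) → h = 1 by
    obtain ⟨l, hl⟩ := exists_acts S.ax hn
    exact key _ l rfl n hn hl h hh u hu e
  intro k
  induction k with
  | zero =>
    intro l hl n hn hσ h hh u hu e
    have hnH : n ∈ D.H := mem_H_of_pos_preserving S.ax hn hσ fun r hr => by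
      rw [inv_eq_zero S.ax l hl]; simpa using hr
    obtain ⟨v, hv, e'⟩ := mk_eq_iff_mem.1 e
    have h1 : n⁻¹ * u * n * v ∈ D.U := D.U.mul_mem (by
      have := H_conj_U S.ax (D.H.inv_mem hnH) hu
      rwa [inv_inv] at this) hv
    have h2 : h = n⁻¹ * u * n * v := by
      calc h = n⁻¹ * (n * h) := by group
        _ = _ := by rw [e']; group
    have : h ∈ D.U ⊓ D.H := ⟨h2 ▸ h1, hh⟩
    rwa [S.U_inf_H, Subgroup.mem_bot] at this
  | succ k ih =>
    intro l hl n hn hσ h hh u hu e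
    have hne : D.wl l ≠ 1 := fun he => by rw [he, Data.inv_one] at hl; omega
    obtain ⟨i, hi⟩ := exists_descent S.ax hne
    have hinv := inv_refl_mul_neg S.ax l hi
    set n' := (D.nn i)⁻¹ * n with hn'
    have hn'N : n' ∈ D.N := D.N.mul_mem (D.N.inv_mem (nn_mem_N i)) hn
    have hσ' : D.Acts n' (D.wl (i :: l)) := by
      have := (acts_nn S.ax i).inv.mul hσ
      rwa [refl_inv S.ax, ← wl_cons] at this
    have hpos : D.Pos ((D.wl (i :: l))⁻¹ (D.simp i)) := by
      rw [wl_cons, mul_inv_rev, Equiv.Perm.mul_apply, refl_inv S.ax, S.ax.refl_simp, ← wl_reverse S.ax,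
        wl_opp S.ax, wl_reverse S.ax, S.ax.pos_opp]
      exact hi
    obtain ⟨y, hy, v, hv, rfl⟩ := U_eq_mul S.ax i hu
    obtain ⟨t, rfl⟩ := (S.X_eq _ _).1 hy
    have hv' := nn_inv_conj_Urad S.ax hv
    obtain ⟨-, e2⟩ := S.inj_step (i :: l) hpos (t := t) (s := 0)
      (y := (D.nn i)⁻¹ * v * D.nn i * n') (y' := n' * h)
      (by simpa using mem_cell_mul hn'N hσ' (Urad_le_B i hv') D.B.one_mem)
      (by simpa using mem_cell_mul hn'N hσ' D.B.one_mem (H_le_B hh))
      (by simpa [hn', S.x_zero, mul_assoc] using e)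
    exact ih (i :: l) (by rw [wl_cons]; omega) n' hn'N hσ' h hh _ (Urad_le_U i hv') e2

/-! ### The opposite unipotent group -/

/-- The opposite of `U`. -/
def Uopp : Subgroup M := D.U.map (MulAut.conj S.n0).toMonoidHom

theorem mem_Uopp {g : M} : g ∈ S.Uopp ↔ S.n0⁻¹ * g * S.n0 ∈ D.U := by
  simp only [Uopp, Subgroup.mem_map, MulEquiv.coe_toMonoidHom, MulAut.conj_apply]
  refine ⟨?_, fun h => ⟨_, h, by group⟩⟩
  rintro ⟨u, hu, rfl⟩
  simpa [mul_assoc] using hu

theorem acts_n0 : D.Acts S.n0 (D.wl S.l0) := acts_nw S.ax _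

theorem pos_σ0 {r : ι} : D.Pos (D.wl S.l0 r) ↔ ¬ D.Pos r := by
  refine ⟨fun h hr => S.longest r hr h, fun h => ?_⟩
  have := S.longest _ ((S.ax.pos_opp r).2 h)
  rw [wl_opp S.ax, S.ax.pos_opp, not_not] at this
  exact this

theorem pos_σ0_inv {r : ι} : D.Pos ((D.wl S.l0)⁻¹ r) ↔ ¬ D.Pos r := by
  constructor
  · intro h hr
    refine S.longest _ h ?_
    rwa [show D.wl S.l0 ((D.wl S.l0)⁻¹ r) = r from (D.wl S.l0).apply_symm_apply r]
  · intro h
    by_contra hn
    have := S.pos_σ0.2 hn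
    rw [show D.wl S.l0 ((D.wl S.l0)⁻¹ r) = r from (D.wl S.l0).apply_symm_apply r] at this
    exact h this

theorem X_le_Uopp {r : ι} (hr : ¬ D.Pos r) : D.X r ≤ S.Uopp := fun y hy => by
  rw [mem_Uopp]
  have := (S.acts_n0.inv r y).2 hy
  rw [inv_inv] at this
  exact X_le_U (S.pos_σ0_inv.2 hr) this

theorem exists_opp_simp (i : κ) : ∃ j, D.wl S.l0 (D.simp j) = D.opp (D.simp i) := by
  set σ := D.wl S.l0 with hσ
  have hπ : D.wl (S.l0.reverse ++ i :: S.l0) = σ⁻¹ * (D.refl i * σ) := by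
    rw [wl_append, wl_cons, wl_reverse S.ax]
  have hgood : ∀ s, D.Pos s → σ s ≠ D.opp (D.simp i) → D.Pos (D.wl (S.l0.reverse ++ i :: S.l0) s) := by
    intro s hs hne
    rw [hπ, Equiv.Perm.mul_apply, Equiv.Perm.mul_apply, S.pos_σ0_inv]
    have h1 := S.ax.refl_pos i (D.opp (σ s)) ((S.ax.pos_opp _).2 (S.longest s hs))
      (fun h => hne (by rw [← h, S.ax.opp_opp]))
    rwa [S.ax.refl_opp, S.ax.pos_opp] at h1
  have hne : D.wl (S.l0.reverse ++ i :: S.l0) ≠ 1 := by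
    rw [hπ, Ne, inv_mul_eq_one, eq_comm, mul_eq_right]
    exact S.refl_ne_one i
  obtain ⟨j, hj⟩ := exists_simp_neg S.ax _ hne
  exact ⟨j, by_contra fun h => hj (hgood _ (S.ax.pos_simp j) h)⟩

/-- Elements of the opposite group, split at a simple root. -/
theorem exists_decomp_opp (i : κ) {v : M} (hv : v ∈ S.Uopp) :
    ∃ v' y : M, y ∈ D.X (D.opp (D.simp i)) ∧ D.nn i * v' * (D.nn i)⁻¹ ∈ S.Uopp ∧ v = v' * y := by
  obtain ⟨j, hj⟩ := S.exists_opp_simp i
  obtain ⟨y, hy, w, hw, e⟩ := U_eq_mul S.ax j (S.mem_Uopp.1 hv)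
  refine ⟨S.n0 * (y * w * y⁻¹) * S.n0⁻¹, S.n0 * y * S.n0⁻¹, hj ▸ (S.acts_n0 _ y).2 hy, ?_, ?_⟩
  · have hle : D.Urad j ≤ S.Uopp.comap (MulAut.conj (D.nn i * S.n0)).toMonoidHom := by
      refine iSup₂_le fun r hr z hz => ?_
      refine S.X_le_Uopp (r := D.refl i (D.wl S.l0 r)) ?_ (((acts_nn S.ax i).mul S.acts_n0 r z).2 hz)
      have h1 := S.ax.refl_pos i (D.opp (D.wl S.l0 r)) ((S.ax.pos_opp _).2 (S.longest r hr.1))
        (fun h => hr.2 ((D.wl S.l0).injective (by rw [hj, ← h, S.ax.opp_opp])))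
      rwa [S.ax.refl_opp, S.ax.pos_opp] at h1
    have := hle (X_conj_Urad S.ax hy hw)
    simpa [mul_assoc] using this
  · calc v = S.n0 * (S.n0⁻¹ * v * S.n0) * S.n0⁻¹ := by group
      _ = _ := by rw [e]; group

theorem exists_x_of_mem_opp (i : κ) {y : M} (hy : y ∈ D.X (D.opp (D.simp i))) :
    ∃ s, y = D.nn i * S.x i s * (D.nn i)⁻¹ := by
  have := ((acts_nn S.ax i).inv _ y).2 hy
  rw [inv_inv, refl_inv S.ax, refl_opp_simp S.ax] at this
  obtain ⟨s, hs⟩ := (S.X_eq _ _).1 this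
  exact ⟨s, by rw [hs]; group⟩

theorem nn_x_mem_opp (i : κ) (s : F) : D.nn i * S.x i s * (D.nn i)⁻¹ ∈ D.X (D.opp (D.simp i)) := by
  have := S.ax.conj_X i _ _ (S.x_mem_X i s)
  rwa [S.ax.refl_simp] at this

theorem closure_Uopp_nn : Subgroup.closure ((S.Uopp : Set M) ∪ Set.range D.nn) = ⊤ := by
  rw [← top_le_iff, ← S.top]
  refine iSup_le fun r y hy => ?_
  obtain ⟨l, i, rfl⟩ := S.ax.reach r
  set C := Subgroup.closure ((S.Uopp : Set M) ∪ Set.range D.nn)
  have hn : ∀ j, D.nn j ∈ C := fun j => Subgroup.subset_closure (Or.inr ⟨j, rfl⟩)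
  have h1 : D.nn i * ((D.nw l)⁻¹ * y * D.nw l) * (D.nn i)⁻¹ ∈ C := by
    refine Subgroup.subset_closure (Or.inl (S.X_le_Uopp (not_pos_opp_simp S.ax i) ?_))
    have := ((acts_nn S.ax i).mul (acts_nw S.ax l).inv (D.wl l (D.simp i)) y).2 hy
    simp only [Equiv.Perm.mul_apply, mul_inv_rev, inv_inv] at this
    rw [show (D.wl l)⁻¹ (D.wl l (D.simp i)) = D.simp i from (D.wl l).symm_apply_apply _, S.ax.refl_simp] at this
    simpa [mul_assoc] using this
  have hl : D.nw l ∈ C := Subgroup.list_prod_mem _ fun _ hx => by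
    obtain ⟨j, -, rfl⟩ := List.mem_map.1 hx; exact hn j
  have := C.mul_mem (C.mul_mem hl (C.mul_mem (C.mul_mem (C.inv_mem (hn i)) h1) (hn i))) (C.inv_mem hl)
  simpa [mul_assoc] using this

/-! ### Parabolic subgroups of the monomial group -/

/-- The torus of `K`. -/
def HK (K : Set κ) : Subgroup M where
  carrier := {g | ∃ c, (∀ i ∉ K, c i = 1) ∧ S.tor c = g}
  one_mem' := ⟨1, fun _ _ => rfl, map_one _⟩
  mul_mem' := by
    rintro _ _ ⟨c, hc, rfl⟩ ⟨c', hc', rfl⟩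
    exact ⟨c * c', fun i hi => by simp [hc i hi, hc' i hi], map_mul _ _ _⟩
  inv_mem' := by
    rintro _ ⟨c, hc, rfl⟩
    exact ⟨c⁻¹, fun i hi => by simp [hc i hi], map_inv _ _⟩

theorem HK_le (K : Set κ) : S.HK K ≤ D.H := by
  rintro _ ⟨c, -, rfl⟩
  exact S.tor_mem c

theorem h_mem_HK {K : Set κ} {j : κ} (hj : j ∈ K) (a : Fˣ) : S.h j a ∈ S.HK K :=
  ⟨_, fun i hi => Pi.mulSingle_eq_of_ne (M := fun _ => Fˣ) (show i ≠ j from fun h => hi (h ▸ hj)) a, rfl⟩

theorem nn_conj_HK {K : Set κ} {j : κ} (hj : j ∈ K) {g : M} (hg : g ∈ S.HK K) :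
    D.nn j * g * (D.nn j)⁻¹ ∈ S.HK K := by
  obtain ⟨c, hc, rfl⟩ := hg
  obtain ⟨a, ha⟩ := S.conj_tor j c
  exact ⟨_, fun i hi => by simp [hc i hi, Pi.mulSingle_eq_of_ne (show i ≠ j from fun h => hi (h ▸ hj))], ha.symm⟩

theorem conj_tor_KW {K : Set κ} : ∀ {l : List κ}, KW K l → ∀ c : κ → Fˣ,
    ∃ c', (D.nw l)⁻¹ * S.tor c * D.nw l = S.tor c' ∧ ∀ i ∉ K, c' i = c i
  | [], _, c => ⟨c, by simp, fun _ _ => rfl⟩
  | j :: l, h, c => by
    obtain ⟨a, ha⟩ := S.inv_conj_tor j c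
    obtain ⟨c', e, hc'⟩ := conj_tor_KW (fun i hi => h i (List.mem_cons_of_mem _ hi)) (c * Pi.mulSingle j a)
    refine ⟨c', ?_, fun i hi => ?_⟩
    · rw [← e, ← ha, nw_cons]; group
    · rw [hc' i hi]
      simp [Pi.mulSingle_eq_of_ne (fun e : i = j => hi (e ▸ h j List.mem_cons_self))]

theorem conj_HK {K : Set κ} {l : List κ} (hl : KW K l) {g : M} (hg : g ∈ S.HK K) :
    (D.nw l)⁻¹ * g * D.nw l ∈ S.HK K := by
  obtain ⟨c, hc, rfl⟩ := hg
  obtain ⟨c', e, hc'⟩ := S.conj_tor_KW hl c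
  exact ⟨c', fun i hi => (hc' i hi).trans (hc i hi), e.symm⟩

/-- A simple root carried to a simple root. -/
theorem simple_conj [Finite ι] {l : List κ} {i j : κ} (e : D.wl l (D.simp i) = D.simp j) :
    ∃ a, D.nw l * D.nn i * (D.nw l)⁻¹ = S.h j a * D.nn j := by
  set g := D.nw l * D.nn i * (D.nw l)⁻¹ with hg
  have hgN : g ∈ D.N := D.N.mul_mem (D.N.mul_mem (nw_mem_N l) (nn_mem_N i)) (D.N.inv_mem (nw_mem_N l))
  set C := Subgroup.closure (Set.range (S.x j) ∪ {D.nn j})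
  have hgC : g ∈ C := by
    have hn : D.nn i = S.x i 1 * (D.nn i * S.x i 1 * (D.nn i)⁻¹) * S.x i 1 := by
      have := S.flip i 1
      simp only [Units.val_one, _root_.inv_one] at this
      rw [this, show S.h i 1 = 1 by simp [h]]
      simp only [mul_assoc, S.x_add, neg_add_cancel, S.x_zero, mul_one]
      simp only [← mul_assoc, S.x_add, add_neg_cancel, S.x_zero, one_mul]
    have hx : ∀ s, D.nw l * S.x i s * (D.nw l)⁻¹ ∈ C := fun s => by
      have := (acts_nw S.ax l (D.simp i) _).2 (S.x_mem_X i s)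
      rw [e] at this
      obtain ⟨t, ht⟩ := (S.X_eq _ _).1 this
      exact ht ▸ Subgroup.subset_closure (Or.inl ⟨t, rfl⟩)
    have hy : D.nw l * (D.nn i * S.x i 1 * (D.nn i)⁻¹) * (D.nw l)⁻¹ ∈ C := by
      have := (acts_nw S.ax l (D.opp (D.simp i)) _).2 (S.nn_x_mem_opp i 1)
      rw [wl_opp S.ax, e] at this
      obtain ⟨t, ht⟩ := S.exists_x_of_mem_opp j this
      have hn : D.nn j ∈ C := Subgroup.subset_closure (Or.inr rfl)
      exact ht ▸ C.mul_mem (C.mul_mem hn (Subgroup.subset_closure (Or.inl ⟨t, rfl⟩))) (C.inv_mem hn)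
    rw [hg, hn]
    simpa [mul_assoc] using C.mul_mem (C.mul_mem (hx 1) hy) (hx 1)
  have hσ : D.Acts g (D.wl l * D.refl i * (D.wl l)⁻¹) :=
    ((acts_nw S.ax l).mul (acts_nn S.ax i)).mul (acts_nw S.ax l).inv
  rcases (S.rels j).normalForm hgC with ⟨α, a, ha, eg⟩ | ⟨α, s, β, hs, eg⟩
  · rw [S.hel_eq j ha] at eg
    exfalso
    have hH : g ∈ D.H := (N_inf_B S.ax).le
      ⟨hgN, eg ▸ D.B.mul_mem (X_simp_le_B S.ax j (S.x_mem_X _ _)) (H_le_B (S.h_mem _ _))⟩
    have h1 := DFunLike.congr_fun (acts_unique S.ax hσ (acts_H S.ax hH)) (D.simp j)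
    simp only [Equiv.Perm.mul_apply, Equiv.Perm.one_apply] at h1
    rw [← e, show (D.wl l)⁻¹ (D.wl l (D.simp i)) = D.simp i from (D.wl l).symm_apply_apply _,
      S.ax.refl_simp, (D.wl l).injective.eq_iff] at h1
    have h5 := S.ax.pos_simp i
    rw [← h1] at h5
    exact not_pos_opp_simp S.ax i h5
  · rw [S.hel_eq j hs] at eg
    set u := Units.mk0 s hs
    set m := S.h j u * D.nn j with hm
    have hmN : m ∈ D.N := D.N.mul_mem (H_le_N (S.h_mem _ _)) (nn_mem_N j)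
    have hmσ : D.Acts m (D.refl j) := by simpa using (acts_H S.ax (S.h_mem j u)).mul (acts_nn S.ax j)
    obtain ⟨l', hl'⟩ := exists_acts S.ax hgN
    have h2 : g ∈ D.cell (D.wl [j]) := by
      rw [eg]
      simpa [hm, mul_assoc] using
        mem_cell_mul hmN hmσ (X_simp_le_B S.ax j (S.x_mem_X j α)) (X_simp_le_B S.ax j (S.x_mem_X j β))
    have h3 := cell_disjoint S.ax (mem_cell_of hgN hl') h2
    rw [h3, wl_cons, wl_nil, mul_one] at hl'
    have hH : g * m⁻¹ ∈ D.H := mul_inv_mem_H S.ax hgN hmN hl' hmσ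
    have hy : m * S.x j β * m⁻¹ ∈ D.X (D.opp (D.simp j)) ⊓ D.B := by
      constructor
      · have := (hmσ (D.simp j) _).2 (S.x_mem_X j β)
        rwa [S.ax.refl_simp] at this
      · have : m * S.x j β * m⁻¹ = (S.x j α)⁻¹ * (g * m⁻¹) := by rw [eg, hm]; group
        rw [this]
        exact D.B.mul_mem (D.B.inv_mem (X_simp_le_B S.ax j (S.x_mem_X _ _))) (H_le_B hH)
    rw [S.ax.neg_not_mem _ (not_pos_opp_simp S.ax j), Subgroup.mem_bot, conj_eq_one_iff] at hy
    have hα : S.x j α ∈ D.U ⊓ D.H := by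
      refine ⟨S.x_mem_U _ _, ?_⟩
      rw [show S.x j α = g * m⁻¹ by rw [eg, hy, hm]; group]
      exact hH
    rw [S.U_inf_H, Subgroup.mem_bot] at hα
    exact ⟨u, by rw [eg, hα, hy, one_mul, mul_one]⟩

/-- Deletion in a parabolic. -/
theorem deletion_K [Finite ι] {K : Set κ} : ∀ {l : List κ}, KW K l → ∀ {i : κ},
    ¬ D.Pos (D.wl l (D.simp i)) →
    ∃ g ∈ S.HK K, ∃ l' : List κ, KW K l' ∧ l'.length < l.length ∧ D.nw l * D.nn i = g * D.nw l'
  | [], _, i, hneg => absurd (S.ax.pos_simp i) hneg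
  | j :: l, hK, i, hneg => by
    have hjK := hK j List.mem_cons_self
    have hlK : KW K l := fun a ha => hK a (List.mem_cons_of_mem _ ha)
    by_cases hu : D.Pos (D.wl l (D.simp i))
    · have huj : D.wl l (D.simp i) = D.simp j := by
        by_contra hne
        exact hneg (by simpa using S.ax.refl_pos j _ hu hne)
      obtain ⟨a, ha⟩ := S.simple_conj huj
      refine ⟨S.h j (a⁻¹ * -1), S.h_mem_HK hjK _, l, hlK, by simp, ?_⟩
      calc D.nw (j :: l) * D.nn i = D.nn j * (D.nw l * D.nn i * (D.nw l)⁻¹) * D.nw l := by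
            rw [nw_cons]; group
        _ = _ := by rw [ha, ← mul_assoc, S.nn_h, mul_assoc (S.h j a⁻¹), S.nn_sq, S.h_mul]
    · obtain ⟨g, hg, l', hl', hlen, e⟩ := deletion_K hlK hu
      refine ⟨D.nn j * g * (D.nn j)⁻¹, S.nn_conj_HK hjK hg, j :: l', ?_, by simp [hlen], ?_⟩
      · intro a ha
        rcases List.mem_cons.1 ha with rfl | ha
        exacts [hjK, hl' a ha]
      · simp [mul_assoc, e]

theorem nw_mem_HK [Finite ι] {K : Set κ} {l : List κ} (hl : KW K l) (h : D.wl l = 1) :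
    D.nw l ∈ S.HK K := by
  suffices key : ∀ k, ∀ l : List κ, l.length = k → KW K l → D.wl l = 1 → D.nw l ∈ S.HK K from
    key _ l rfl hl h
  intro k
  induction k using Nat.strong_induction_on with
  | _ k ih =>
    intro l hk hl h
    rcases List.eq_nil_or_concat l with rfl | ⟨l₀, i, rfl⟩
    · simp
    · rw [List.concat_eq_append] at *
      have hneg : ¬ D.Pos (D.wl l₀ (D.simp i)) := by
        have h1 := DFunLike.congr_fun h (D.simp i)
        simp only [wl_append, wl_cons, wl_nil, mul_one, Equiv.Perm.mul_apply, S.ax.refl_simp, wl_opp S.ax,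
          Equiv.Perm.one_apply] at h1
        intro hp
        exact (S.ax.pos_opp _).1 (h1.symm ▸ S.ax.pos_simp i) hp
      obtain ⟨g, hg, l', hl', hlen, e⟩ := S.deletion_K (fun a ha => hl a (List.mem_append.2 (Or.inl ha))) hneg
      have e' : D.nw (l₀ ++ [i]) = g * D.nw l' := by simpa [nw_append] using e
      have hw : D.wl l' = 1 := (acts_unique S.ax (acts_mul_nw S.ax (S.HK_le K hg) l')
        (e' ▸ acts_nw S.ax (l₀ ++ [i]))).trans h
      rw [e']
      exact (S.HK K).mul_mem hg (ih l'.length (by simp at hk; omega) l' rfl hl' hw)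

theorem nw_congr [Finite ι] {K : Set κ} {l l' : List κ} (hl : KW K l) (hl' : KW K l')
    (h : D.wl l = D.wl l') : ∃ g ∈ S.HK K, D.nw l = D.nw l' * g := by
  have h1 := S.nw_mem_HK (hl'.reverse.append hl) (by rw [wl_append, wl_reverse S.ax, h, inv_mul_cancel])
  have h2 := S.nw_mem_HK (hl'.reverse.append hl') (by rw [wl_append, wl_reverse S.ax, inv_mul_cancel])
  refine ⟨_, (S.HK K).mul_mem ((S.HK K).inv_mem h2) h1, ?_⟩
  simp only [nw_append]
  group

theorem wl_ne_refl [Finite ι] {K : Set κ} {i : κ} (hi : i ∉ K) {l : List κ} (hl : KW K l) :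
    D.wl l ≠ D.refl i := by
  suffices key : ∀ k, ∀ l : List κ, l.length = k → KW K l → D.wl l ≠ D.refl i from key _ l rfl hl
  intro k
  induction k using Nat.strong_induction_on with
  | _ k ih =>
    intro l hk hl h
    rcases List.eq_nil_or_concat l with rfl | ⟨l₀, j, rfl⟩
    · exact S.refl_ne_one i h.symm
    · rw [List.concat_eq_append] at *
      by_cases hp : D.Pos (D.wl l₀ (D.simp j))
      · have h1 : ¬ D.Pos (D.refl i (D.simp j)) := by
          rw [← h]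
          simp [wl_append, S.ax.refl_simp, wl_opp S.ax, S.ax.pos_opp, hp]
        refine h1 (S.ax.refl_pos i _ (S.ax.pos_simp j) fun e => hi ?_)
        rw [← S.ax.simp_inj e]
        exact hl j (by simp)
      · obtain ⟨g, hg, l', hl', hlen, e⟩ := S.deletion_K (fun a ha => hl a (List.mem_append.2 (Or.inl ha))) hp
        have e' : D.nw (l₀ ++ [j]) = g * D.nw l' := by simpa [nw_append] using e
        exact ih l'.length (by simp at hk; omega) l' rfl hl'
          ((acts_unique S.ax (acts_mul_nw S.ax (S.HK_le K hg) l') (e' ▸ acts_nw S.ax (l₀ ++ [j]))).trans h)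

theorem exists_root_of_neg {K : Set κ} : ∀ {l : List κ}, KW K l → ∀ {r : ι}, D.Pos r →
    ¬ D.Pos (D.wl l r) → ∃ j ∈ K, ∃ l' : List κ, KW K l' ∧ r = D.wl l' (D.simp j)
  | [], _, r, hr, h => absurd hr h
  | j :: l, hK, r, hr, h => by
    have hlK : KW K l := fun a ha => hK a (List.mem_cons_of_mem _ ha)
    by_cases hp : D.Pos (D.wl l r)
    · refine ⟨j, hK j List.mem_cons_self, l.reverse, hlK.reverse, ?_⟩
      have huj : D.wl l r = D.simp j := by
        by_contra hne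
        exact h (by simpa using S.ax.refl_pos j _ hp hne)
      rw [wl_reverse S.ax, ← huj]
      exact ((D.wl l).symm_apply_apply r).symm
    · exact exists_root_of_neg hlK hr hp

theorem pos_of_not_mem [Finite ι] {K : Set κ} {i : κ} (hi : i ∉ K) {l : List κ} (hl : KW K l) :
    D.Pos (D.wl l (D.simp i)) := by
  by_contra h
  obtain ⟨j, hj, l', hl', e⟩ := S.exists_root_of_neg hl (S.ax.pos_simp i) h
  obtain ⟨a, ha⟩ := S.simple_conj e.symm
  refine S.wl_ne_refl hi (l := l' ++ j :: l'.reverse) (hl'.append fun b hb => ?_) ?_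
  · rcases List.mem_cons.1 hb with rfl | hb
    exacts [hj, hl'.reverse b hb]
  · have h1 := ((acts_nw S.ax l').mul (acts_nn S.ax j)).mul (acts_nw S.ax l').inv
    rw [ha] at h1
    have h2 := acts_unique S.ax h1 ((acts_H S.ax (S.h_mem i a)).mul (acts_nn S.ax i))
    rw [one_mul] at h2
    rw [wl_append, wl_cons, wl_reverse S.ax, ← mul_assoc]
    exact h2

end Setup

end Cfsg.Agent.CurtisRichen
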