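/-
The operators attached to the double cosets `U n U` on the vectors fixed by `U`.
-/
import Cfsg.Agent.Lib.CurtisRichen.Basics
import Cfsg.Agent.Lib.Blocks.CyclicDefect.Reps
import Mathlib.FieldTheory.Finite.Basic

set_option autoImplicit false
set_option linter.unusedSectionVars false

namespace Cfsg.Agent.CurtisRichen

open Cfsg.Agent.RootBN Cfsg.Agent.RootBN.Data Cfsg.Agent.Blocks.CyclicDefect

/-- Separating the zero term. -/
theorem sum_eq_zero_add_units {F : Type*} [Field F] [Fintype F] [DecidableEq F] {A : Type*} [AddCommMonoid A]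
    (f : F → A) : ∑ s, f s = f 0 + ∑ a : Fˣ, f a := by
  rw [← Finset.add_sum_erase _ _ (Finset.mem_univ (0 : F))]
  congr 1
  refine (Finset.sum_bij' (fun (a : Fˣ) _ => (a : F))
    (fun s hs => Units.mk0 s (Finset.ne_of_mem_erase hs)) ?_ ?_ ?_ ?_ ?_).symm <;> simp

variable {M : Type*} [Group M] {ι κ : Type*} [DecidableEq κ] {F : Type*} [Field F]
variable {k : Type*} [Field k] {V : Type*} [AddCommGroup V] [Module k V]

/-- The cosets in `U n U`. -/
noncomputable def orb [Finite M] (D : Data M ι κ) (n : M) : Finset (M ⧸ D.U) :=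
  (Set.toFinite (Set.range fun u : D.U => (QuotientGroup.mk ((u : M) * n) : M ⧸ D.U))).toFinset

theorem mem_orb [Finite M] {D : Data M ι κ} {n : M} {y : M ⧸ D.U} :
    y ∈ orb D n ↔ ∃ u ∈ D.U, (QuotientGroup.mk (u * n) : M ⧸ D.U) = y := by
  simp [orb]

/-- Fixed by `U`. -/
def UFix (D : Data M ι κ) (ρ : Representation k M V) (v : V) : Prop := ∀ u ∈ D.U, ρ u v = v

/-- The operator of `U n U`. -/
noncomputable def T [Finite M] (D : Data M ι κ) (ρ : Representation k M V) (n : M) : V →ₗ[k] V :=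
  ∑ y ∈ orb D n, ρ y.out

theorem rho_out {D : Data M ι κ} {ρ : Representation k M V} {v : V} (hv : UFix D ρ v) (g : M) :
    ρ (QuotientGroup.mk g : M ⧸ D.U).out v = ρ g v := by
  obtain ⟨u, hu⟩ := QuotientGroup.mk_out_eq_mul D.U g
  rw [hu, map_mul, Module.End.mul_apply, hv u u.2]

theorem intw_T [Finite M] {D : Data M ι κ} {W : Type*} [AddCommGroup W] [Module k W]
    {ρ : Representation k M V} {σ : Representation k M W} {f : V →ₗ[k] W}
    (hf : ∀ g x, f (ρ g x) = σ g (f x)) (n : M) (v : V) : f (T D ρ n v) = T D σ n (f v) := by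
  simp [T, LinearMap.sum_apply, map_sum, hf]

variable {D : Data M ι κ} {p : ℕ} (S : Setup D F p) (ρ : Representation k M V)

namespace Setup

open Setup

/-- The operator of a simple reflection. -/
noncomputable def A [Finite M] (_S : Setup D F p) (ρ : Representation k M V) (i : κ) : V →ₗ[k] V :=
  T D ρ (D.nn i)

variable {ρ} [Finite M]

theorem T_fix {v : V} (hv : UFix D ρ v) (n : M) : UFix D ρ (T D ρ n v) := by
  intro u hu
  simp only [T, LinearMap.sum_apply, map_sum]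
  refine Finset.sum_bij' (fun y _ => u • y) (fun y _ => u⁻¹ • y) (fun y hy => ?_) (fun y hy => ?_)
    (fun y _ => inv_smul_smul _ _) (fun y _ => smul_inv_smul _ _) (fun y _ => ?_)
  · obtain ⟨w, hw, rfl⟩ := mem_orb.1 hy
    exact mem_orb.2 ⟨u * w, D.U.mul_mem hu hw, by rw [MulAction.Quotient.smul_mk, smul_eq_mul, mul_assoc]⟩
  · obtain ⟨w, hw, rfl⟩ := mem_orb.1 hy
    exact mem_orb.2 ⟨u⁻¹ * w, D.U.mul_mem (D.U.inv_mem hu) hw,
      by rw [MulAction.Quotient.smul_mk, smul_eq_mul, mul_assoc]⟩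
  · induction y using QuotientGroup.induction_on with
    | H g => rw [MulAction.Quotient.smul_mk, smul_eq_mul, rho_out hv, rho_out hv, map_mul, Module.End.mul_apply]

theorem T_one {v : V} (hv : UFix D ρ v) : T D ρ 1 v = v := by
  have e : orb D 1 = {(QuotientGroup.mk 1 : M ⧸ D.U)} := by
    ext y
    simp only [mem_orb, mul_one, Finset.mem_singleton]
    refine ⟨?_, fun h => ⟨1, D.U.one_mem, h.symm⟩⟩
    rintro ⟨u, hu, rfl⟩
    exact QuotientGroup.eq.2 (by simpa using hu)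
  rw [T, e, Finset.sum_singleton, rho_out hv, map_one, Module.End.one_apply]

include S

theorem conj_U_mem {h u : M} (hh : h ∈ D.H) (hu : u ∈ D.U) : h⁻¹ * u * h ∈ D.U := by
  have := H_conj_U S.ax (D.H.inv_mem hh) hu
  rwa [inv_inv] at this

theorem rho_H_fix {v : V} (hv : UFix D ρ v) {h : M} (hh : h ∈ D.H) : UFix D ρ (ρ h v) := fun u hu => by
  rw [← Module.End.mul_apply, ← map_mul, show u * h = h * (h⁻¹ * u * h) by group, map_mul, Module.End.mul_apply,
    hv _ (S.conj_U_mem hh hu)]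

theorem T_mul_H {v : V} (hv : UFix D ρ v) (n : M) {h : M} (hh : h ∈ D.H) :
    T D ρ (n * h) v = T D ρ n (ρ h v) := by
  simp only [T, LinearMap.sum_apply]
  symm
  refine Finset.sum_bij (fun y _ => (QuotientGroup.mk (y.out * h) : M ⧸ D.U)) (fun y hy => ?_)
    (fun y hy y' hy' e => ?_) (fun y hy => ?_) (fun y hy => ?_)
  · obtain ⟨u, hu, rfl⟩ := mem_orb.1 hy
    obtain ⟨w, hw⟩ := QuotientGroup.mk_out_eq_mul D.U (u * n)
    refine mem_orb.2 ⟨u, hu, mk_eq_iff_mem.2 ⟨h⁻¹ * w * h, S.conj_U_mem hh w.2, ?_⟩⟩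
    rw [hw]; group
  · obtain ⟨w, hw, e'⟩ := mk_eq_iff_mem.1 e
    rw [← y.out_eq', ← y'.out_eq']
    refine mk_eq_iff_mem.2 ⟨h * w * h⁻¹, H_conj_U S.ax hh hw, ?_⟩
    calc y'.out = y'.out * h * h⁻¹ := by group
      _ = _ := by rw [e']; group
  · obtain ⟨u, hu, rfl⟩ := mem_orb.1 hy
    obtain ⟨w, hw⟩ := QuotientGroup.mk_out_eq_mul D.U (u * n)
    refine ⟨QuotientGroup.mk (u * n), mem_orb.2 ⟨u, hu, rfl⟩, mk_eq_iff_mem.2
      ⟨(h⁻¹ * w * h)⁻¹, D.U.inv_mem (S.conj_U_mem hh w.2), ?_⟩⟩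
    rw [hw]; group
  · rw [rho_out hv, map_mul, Module.End.mul_apply]

theorem rho_H_T {v : V} (hv : UFix D ρ v) (n : M) {h : M} (hh : h ∈ D.H) :
    ρ h (T D ρ n v) = T D ρ (h * n) v := by
  simp only [T, LinearMap.sum_apply, map_sum]
  refine Finset.sum_bij' (fun y _ => h • y) (fun y _ => h⁻¹ • y) (fun y hy => ?_) (fun y hy => ?_)
    (fun y _ => inv_smul_smul _ _) (fun y _ => smul_inv_smul _ _) (fun y _ => ?_)
  · obtain ⟨w, hw, rfl⟩ := mem_orb.1 hy
    refine mem_orb.2 ⟨h * w * h⁻¹, H_conj_U S.ax hh hw, ?_⟩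
    rw [MulAction.Quotient.smul_mk, smul_eq_mul]
    congr 1
    group
  · obtain ⟨w, hw, rfl⟩ := mem_orb.1 hy
    refine mem_orb.2 ⟨h⁻¹ * w * h, S.conj_U_mem hh hw, ?_⟩
    rw [MulAction.Quotient.smul_mk, smul_eq_mul]
    congr 1
    group
  · induction y using QuotientGroup.induction_on with
    | H g => rw [MulAction.Quotient.smul_mk, smul_eq_mul, rho_out hv, rho_out hv, map_mul, Module.End.mul_apply]

/-- The eigenvalues on a translate. -/
theorem T_eigen {v : V} (hv : UFix D ρ v) {χ : M → k} (hχ : ∀ h ∈ D.H, ρ h v = χ h • v) {n : M}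
    (hn : n ∈ D.N) {h : M} (hh : h ∈ D.H) : ρ h (T D ρ n v) = χ (n⁻¹ * h * n) • T D ρ n v := by
  have hh' : n⁻¹ * h * n ∈ D.H := by
    have := N_conj_H S.ax (D.N.inv_mem hn) hh
    rwa [inv_inv] at this
  rw [S.rho_H_T hv n hh, show h * n = n * (n⁻¹ * h * n) by group, S.T_mul_H hv n hh', hχ _ hh', map_smul]

variable [Finite ι] [Fintype F]

theorem A_apply {v : V} (hv : UFix D ρ v) (i : κ) : S.A ρ i v = ∑ t : F, ρ (S.x i t * D.nn i) v := by
  simp only [A, T, LinearMap.sum_apply]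
  symm
  refine Finset.sum_bij (fun t _ => (QuotientGroup.mk (S.x i t * D.nn i) : M ⧸ D.U))
    (fun t _ => mem_orb.2 ⟨_, S.x_mem_U i t, rfl⟩) (fun t _ s _ e => ?_) (fun y hy => ?_)
    (fun t _ => (rho_out hv _).symm)
  · have h1 : (1 : M) ∈ D.cell (D.wl []) := (mem_cell_one S.ax).2 D.B.one_mem
    exact (S.inj_step [] (by simpa using S.ax.pos_simp i) h1 h1 (by simpa using e)).1
  · obtain ⟨u, hu, rfl⟩ := mem_orb.1 hy
    obtain ⟨z, hz, v, hv, rfl⟩ := U_eq_mul S.ax i hu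
    obtain ⟨t, rfl⟩ := (S.X_eq _ _).1 hz
    refine ⟨t, Finset.mem_univ _, mk_eq_iff_mem.2 ⟨_, Urad_le_U i (nn_inv_conj_Urad S.ax hv), ?_⟩⟩
    group

/-- The product along an ascent. -/
theorem T_ascend {v : V} (hv : UFix D ρ v) {i : κ} {n : M} {σ : Equiv.Perm ι} (hn : n ∈ D.N)
    (hσ : D.Acts n σ) (hpos : D.Pos (σ⁻¹ (D.simp i))) :
    T D ρ (D.nn i * n) v = S.A ρ i (T D ρ n v) := by
  obtain ⟨l, hl⟩ := exists_acts S.ax hn
  obtain rfl := acts_unique S.ax hσ hl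
  rw [S.A_apply (T_fix hv n) i]
  simp only [T, LinearMap.sum_apply, map_sum]
  rw [← Finset.sum_product']
  symm
  refine Finset.sum_bij (fun q _ => (S.x i q.1 * D.nn i) • q.2) (fun q hq => ?_) (fun q hq q' hq' e => ?_)
    (fun y hy => ?_) (fun q hq => ?_)
  · obtain ⟨-, hq⟩ := Finset.mem_product.1 hq
    obtain ⟨u, hu, hy⟩ := mem_orb.1 hq
    obtain ⟨y, hyX, w, hw, rfl⟩ := U_eq_mul S.ax i hu
    have hyU : n⁻¹ * y * n ∈ D.U := by
      have := (hl.inv _ y).2 hyX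
      rw [inv_inv] at this
      exact X_le_U hpos this
    refine mem_orb.2 ⟨S.x i q.1 * (D.nn i * (y * w * y⁻¹) * (D.nn i)⁻¹), D.U.mul_mem (S.x_mem_U _ _)
      (Urad_le_U i (nn_conj_Urad S.ax (X_conj_Urad S.ax hyX hw))), ?_⟩
    rw [← hy, MulAction.Quotient.smul_mk, smul_eq_mul]
    refine mk_eq_iff_mem.2 ⟨n⁻¹ * y * n, hyU, ?_⟩
    group
  · obtain ⟨-, hq⟩ := Finset.mem_product.1 hq
    obtain ⟨-, hq'⟩ := Finset.mem_product.1 hq'
    obtain ⟨u, hu, hy⟩ := mem_orb.1 hq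
    obtain ⟨u', hu', hy'⟩ := mem_orb.1 hq'
    rw [← hy, ← hy', MulAction.Quotient.smul_mk, MulAction.Quotient.smul_mk, smul_eq_mul, smul_eq_mul] at e
    obtain ⟨h1, h2⟩ := S.inj_step l hpos
      (by simpa using mem_cell_mul hn hl (U_le_B hu) D.B.one_mem)
      (by simpa using mem_cell_mul hn hl (U_le_B hu') D.B.one_mem) e
    exact Prod.ext h1 (hy.symm.trans (h2.trans hy'))
  · obtain ⟨u, hu, rfl⟩ := mem_orb.1 hy
    obtain ⟨y, hyX, w, hw, rfl⟩ := U_eq_mul S.ax i hu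
    obtain ⟨t, rfl⟩ := (S.X_eq _ _).1 hyX
    refine ⟨(t, QuotientGroup.mk ((D.nn i)⁻¹ * w * D.nn i * n)), Finset.mem_product.2
      ⟨Finset.mem_univ _, mem_orb.2 ⟨_, Urad_le_U i (nn_inv_conj_Urad S.ax hw), rfl⟩⟩, ?_⟩
    rw [MulAction.Quotient.smul_mk, smul_eq_mul]
    congr 1
    group
  · obtain ⟨t, y⟩ := q
    induction y using QuotientGroup.induction_on with
    | H g => rw [MulAction.Quotient.smul_mk, smul_eq_mul, rho_out hv, rho_out hv, map_mul _ _ g,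
        Module.End.mul_apply]

variable [Fact p.Prime] [CharP F p] [CharP k p] [DecidableEq F]

theorem card_F_eq_zero : (Fintype.card F : k) = 0 := by
  obtain ⟨n, -, hn⟩ := FiniteField.card F p
  rw [hn, Nat.cast_pow, CharP.cast_eq_zero, zero_pow n.pos.ne']

/-- `A²` is a multiple of `A`. -/
theorem A_A {v : V} (hv : UFix D ρ v) {i : κ} {φ : Fˣ → k} (hφ : ∀ a, ρ (S.h i a) v = φ a • v) :
    S.A ρ i (S.A ρ i v) = (∑ a, φ a) • S.A ρ i v := by
  classical
  have h0 : ∀ t : F, ρ (S.x i t * D.nn i * (S.x i 0 * D.nn i)) v = φ (-1) • v := fun t => by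
    rw [S.x_zero, one_mul, mul_assoc, S.nn_sq, map_mul, Module.End.mul_apply, hφ, map_smul, hv _ (S.x_mem_U i t)]
  have hs : ∀ (s : Fˣ) (t : F), ρ (S.x i t * D.nn i * (S.x i s * D.nn i)) v =
      φ (-s) • ρ (S.x i (t + -((s⁻¹ : Fˣ) : F)) * D.nn i) v := by
    intro s t
    have e1 := S.flip i s⁻¹
    rw [Units.val_inv_eq_inv_val, inv_inv] at e1
    have e2 : S.x i (-((s : F)⁻¹)) * S.h i (-1) = S.h i (-1) * S.x i (-((s : F)⁻¹)) := by
      rw [S.h_x]; simp
    have e : S.x i t * D.nn i * (S.x i s * D.nn i) =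
        S.x i (t + -((s⁻¹ : Fˣ) : F)) * D.nn i * (S.h i (-s) * S.x i (-((s : F)⁻¹))) := by
      calc S.x i t * D.nn i * (S.x i s * D.nn i)
          = S.x i t * (D.nn i * S.x i s * (D.nn i)⁻¹) * (D.nn i * D.nn i) := by group
        _ = S.x i t * S.x i (-(s : F)⁻¹) * (S.h i s⁻¹ * D.nn i) * (S.x i (-(s : F)⁻¹) * S.h i (-1)) := by
          rw [e1, S.nn_sq]; group
        _ = _ := by
          rw [e2, S.x_add, show S.h i s⁻¹ * D.nn i = D.nn i * S.h i s from (S.nn_h i s).symm,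
            Units.val_inv_eq_inv_val]
          rw [show S.h i (-s) = S.h i s * S.h i (-1) by rw [S.h_mul, mul_neg_one]]
          group
    rw [e, map_mul, map_mul (f := ρ) (S.h i (-s)), Module.End.mul_apply, Module.End.mul_apply,
      hv _ (S.x_mem_U _ _), hφ, map_smul]
  have hsum : ∀ c : F, ∑ t, ρ (S.x i (t + c) * D.nn i) v = S.A ρ i v := fun c => by
    rw [S.A_apply hv]
    exact Fintype.sum_equiv (Equiv.addRight c) _ _ fun t => rfl
  calc S.A ρ i (S.A ρ i v) = ∑ s : F, ∑ t, ρ (S.x i t * D.nn i * (S.x i s * D.nn i)) v := by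
        rw [show S.A ρ i (S.A ρ i v) = ∑ t, ρ (S.x i t * D.nn i) (S.A ρ i v) from
          S.A_apply (T_fix hv _) i, Finset.sum_comm]
        simp only [S.A_apply hv, map_sum, map_mul, Module.End.mul_apply]
    _ = ∑ a : Fˣ, φ (-a) • S.A ρ i v := by
        rw [sum_eq_zero_add_units]
        simp only [h0, hs, Finset.sum_const, Finset.card_univ, ← Finset.smul_sum, hsum]
        rw [← Nat.cast_smul_eq_nsmul k, S.card_F_eq_zero, zero_smul, zero_add]
    _ = _ := by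
        rw [← Finset.sum_smul]
        congr 1
        exact Fintype.sum_equiv (Equiv.neg Fˣ) _ _ fun a => rfl

/-- The eigenvalue at a descent. -/
theorem A_descend {v : V} (hv : UFix D ρ v) {χ : M → k} (hχ : ∀ h ∈ D.H, ρ h v = χ h • v) {i : κ} {n : M}
    {σ : Equiv.Perm ι} (hn : n ∈ D.N) (hσ : D.Acts n σ) (hneg : ¬ D.Pos (σ⁻¹ (D.simp i))) :
    S.A ρ i (T D ρ n v) = (∑ a, χ (n⁻¹ * S.h i a * n)) • T D ρ n v := by
  have hn' : (D.nn i)⁻¹ * n ∈ D.N := D.N.mul_mem (D.N.inv_mem (nn_mem_N i)) hn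
  have hσ' := (acts_nn S.ax i).inv.mul hσ
  have hpos : D.Pos (((D.refl i)⁻¹ * σ)⁻¹ (D.simp i)) := by
    rw [mul_inv_rev, inv_inv, Equiv.Perm.mul_apply, S.ax.refl_simp, inv_apply_opp S.ax hn hσ, S.ax.pos_opp]
    exact hneg
  have e := S.T_ascend hv hn' hσ' hpos
  rw [mul_inv_cancel_left] at e
  rw [e, S.A_A (T_fix hv _) (fun a => S.T_eigen hv hχ hn' (S.h_mem i a))]
  congr 1
  refine Fintype.sum_equiv (Equiv.inv Fˣ) _ _ fun a => ?_
  congr 1
  rw [Equiv.inv_apply, show ((D.nn i)⁻¹ * n)⁻¹ * S.h i a * ((D.nn i)⁻¹ * n) =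
    n⁻¹ * (D.nn i * S.h i a * (D.nn i)⁻¹) * n by group, S.nn_h, mul_inv_cancel_right]

end Setup

end Cfsg.Agent.CurtisRichen
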