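/-
Weights of irreducible representations in the defining characteristic: existence and uniqueness
(Curtis, Richen).
-/
import Cfsg.Agent.Lib.CurtisRichen.Ops
import Cfsg.Agent.Lib.Perm.ModuleHeart

set_option autoImplicit false
set_option linter.unusedSectionVars false
set_option linter.style.haveILetI false

namespace Cfsg.Agent.CurtisRichen

open Cfsg.Agent.RootBN Cfsg.Agent.RootBN.Data Cfsg.Agent.Blocks.CyclicDefect

universe v

variable {M : Type*} [Group M] [Finite M] {ι κ : Type*} [DecidableEq κ] [Fintype κ] [Finite ι]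
variable {F : Type*} [Field F] [Fintype F] [DecidableEq F] {k : Type*} [Field k]
variable {D : Data M ι κ} {p : ℕ} [Fact p.Prime] [CharP F p] [CharP k p] (S : Setup D F p)

/-- Weights: `none` is the trivial character with eigenvalue `-1`. -/
abbrev Wt (κ : Type*) (F : Type*) [Field F] (k : Type*) [Field k] : Type _ := κ → Option (Fˣ →* kˣ)

/-- The character at a simple coroot. -/
def phi (w : Wt κ F k) (i : κ) : Fˣ →* kˣ := (w i).getD 1

/-- The eigenvalue at a simple reflection. -/
def lam (w : Wt κ F k) (i : κ) : k := if (w i).isNone then -1 else 0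

/-- The character of the torus. -/
def psi (w : Wt κ F k) (c : κ → Fˣ) : k := ∏ i, (phi w i (c i) : k)

theorem psi_single (w : Wt κ F k) (i : κ) (a : Fˣ) : psi w (Pi.mulSingle i a) = phi w i a := by
  rw [psi, Finset.prod_eq_single i]
  · simp
  · intro j _ hj; simp [Pi.mulSingle_eq_of_ne hj]
  · simp

theorem psi_ne_zero (w : Wt κ F k) (c : κ → Fˣ) : psi w c ≠ 0 :=
  Finset.prod_ne_zero_iff.2 fun _ _ => Units.ne_zero _

theorem psi_mul (w : Wt κ F k) (c c' : κ → Fˣ) : psi w (c * c') = psi w c * psi w c' := by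
  simp [psi, Finset.prod_mul_distrib]

theorem wt_ext {w w' : Wt κ F k} (h : ∀ i, phi w i = phi w' i) (h' : ∀ i, lam w i = lam w' i) : w = w' := by
  funext i
  have h1 := h i
  have h2 := h' i
  simp only [phi, lam] at h1 h2
  rcases hw : w i with _ | a <;> rcases hw' : w' i with _ | a' <;> simp [hw, hw'] at h1 h2 ⊢
  exact h1

include p in
theorem sum_units_eq (φ : Fˣ →* kˣ) [Decidable (φ = 1)] :
    ∑ a, (φ a : k) = if φ = 1 then -1 else 0 := by
  classical
  have h := sum_hom_units (((Units.coeHom k).comp φ))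
  have e : ((Units.coeHom k).comp φ = 1) ↔ φ = 1 :=
    ⟨fun h => MonoidHom.ext fun a => Units.ext (DFunLike.congr_fun h a), fun h => by simp [h]⟩
  simp only [MonoidHom.comp_apply, Units.coeHom_apply, e] at h
  rw [h]
  split_ifs with h'
  · obtain ⟨n, -, hn⟩ := FiniteField.card F p
    rw [Fintype.card_units, Nat.cast_sub Fintype.card_pos, hn, Nat.cast_pow, CharP.cast_eq_zero,
      zero_pow n.pos.ne', Nat.cast_one, zero_sub]
  · exact Nat.cast_zero

variable {V W : Type v} [AddCommGroup V] [Module k V] [AddCommGroup W] [Module k W]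
variable {ρ : Representation k M V} {σ : Representation k M W}

/-- A vector of weight `w`. -/
structure HasWeight (S : Setup D F p) (ρ : Representation k M V) (w : Wt κ F k) (m : V) : Prop where
  ne : m ≠ 0
  fix : UFix D ρ m
  eig : ∀ c, ρ (S.tor c) m = psi w c • m
  eigA : ∀ i, S.A ρ i m = lam w i • m

theorem HasWeight.eig_h {w : Wt κ F k} {m : V} (hm : HasWeight S ρ w m) (i : κ) (a : Fˣ) :
    ρ (S.h i a) m = (phi w i a : k) • m := by
  rw [Setup.h, hm.eig, psi_single]

theorem HasWeight.map {w : Wt κ F k} {m : V} (hm : HasWeight S ρ w m) {f : V →ₗ[k] W} (hf : Intw ρ σ f)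
    (hne : f m ≠ 0) : HasWeight S σ w (f m) where
  ne := hne
  fix u hu := by rw [← hf, hm.fix u hu]
  eig c := by rw [← hf, hm.eig, map_smul]
  eigA i := by
    show T D σ (D.nn i) (f m) = lam w i • f m
    rw [← intw_T hf, show T D ρ (D.nn i) m = lam w i • m from hm.eigA i, map_smul]

include S

/-- A common eigenvector of the torus on the fixed vectors. -/
theorem exists_eigen [IsAlgClosed k] [FiniteDimensional k V] [Nontrivial V] (ρ : Representation k M V) :
    ∃ m : V, m ≠ 0 ∧ UFix D ρ m ∧ ∀ h ∈ D.H, ∃ μ : k, ρ h m = μ • m := by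
  let P : Set (Submodule k V) := {X | X ≠ ⊥ ∧ (∀ x ∈ X, UFix D ρ x) ∧ ∀ h ∈ D.H, ∀ x ∈ X, ρ h x ∈ X}
  let X0 : Submodule k V :=
    { carrier := {x | UFix D ρ x}
      add_mem' := fun ha hb u hu => by simp [ha u hu, hb u hu]
      zero_mem' := fun u _ => map_zero _
      smul_mem' := fun c x hx u hu => by simp [hx u hu] }
  have hP : X0 ∈ P := by
    refine ⟨?_, fun x hx => hx, fun h hh x hx => S.rho_H_fix hx hh⟩
    obtain ⟨x, -, hx0, hx⟩ := Cfsg.Agent.Perm.ModuleHeart.exists_fixed_ne_zero S.isPGroup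
      (ρ.comp D.U.subtype) (W := ⊤) (fun _ _ _ => Submodule.mem_top) top_ne_bot
    exact (Submodule.ne_bot_iff _).2 ⟨x, fun u hu => hx ⟨u, hu⟩, hx0⟩
  obtain ⟨X, ⟨hX0, hXfix, hXinv⟩, hmin⟩ := wellFounded_lt.has_min P ⟨X0, hP⟩
  obtain ⟨m, hm, hm0⟩ := Submodule.exists_mem_ne_zero_of_ne_bot hX0
  refine ⟨m, hm0, hXfix m hm, fun h hh => ?_⟩
  haveI : Nontrivial X := (Submodule.nontrivial_iff_ne_bot).2 hX0
  obtain ⟨μ, hμ⟩ := Module.End.exists_eigenvalue ((ρ h).restrict (hXinv h hh))
  obtain ⟨x, hx⟩ := hμ.exists_hasEigenvector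
  let Y : Submodule k V := X ⊓ Module.End.eigenspace (ρ h) μ
  have hY : Y ∈ P := by
    refine ⟨(Submodule.ne_bot_iff _).2 ⟨x, ⟨x.2, ?_⟩, fun e => hx.2 (Subtype.ext e)⟩,
      fun y hy => hXfix y hy.1, fun g hg y hy => ⟨hXinv g hg y hy.1, ?_⟩⟩
    · rw [SetLike.mem_coe, Module.End.mem_eigenspace_iff]
      exact congrArg Subtype.val hx.apply_eq_smul
    · rw [SetLike.mem_coe, Module.End.mem_eigenspace_iff, ← Module.End.mul_apply, ← map_mul, S.H_comm hh hg,
        map_mul, Module.End.mul_apply, Module.End.mem_eigenspace_iff.1 hy.2, map_smul]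
  have hYX : Y = X := by
    by_contra hne
    exact hmin Y hY (lt_of_le_of_ne inf_le_left hne)
  exact ⟨μ, Module.End.mem_eigenspace_iff.1 ((hYX.symm ▸ hm : m ∈ Y)).2⟩

/-- The characters of an eigenvector. -/
theorem exists_phi {m : V} (hm : m ≠ 0) (he : ∀ h ∈ D.H, ∃ μ : k, ρ h m = μ • m) :
    ∃ φ : κ → (Fˣ →* kˣ), (∀ i a, ρ (S.h i a) m = (φ i a : k) • m) ∧
      ∀ c, ρ (S.tor c) m = (∏ i, (φ i (c i) : k)) • m := by
  classical
  choose μ hμ using fun (i : κ) (a : Fˣ) => he _ (S.h_mem i a)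
  let f : κ → (Fˣ →* k) := fun i =>
    { toFun := μ i
      map_one' := smul_left_injective k hm (show μ i 1 • m = (1 : k) • m by
        rw [← hμ, show S.h i 1 = 1 by simp [Setup.h], map_one, Module.End.one_apply, one_smul])
      map_mul' := fun a b => smul_left_injective k hm (show μ i (a * b) • m = (μ i a * μ i b) • m by
        rw [← hμ, ← S.h_mul, map_mul, Module.End.mul_apply, hμ, map_smul, hμ, smul_smul, mul_comm]) }
  have h1 : ∀ i a, ρ (S.h i a) m = ((f i).toHomUnits a : k) • m := fun i a => by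
    rw [MonoidHom.coe_toHomUnits]; exact hμ i a
  refine ⟨fun i => (f i).toHomUnits, h1, fun c => ?_⟩
  have key : ∀ s : Finset κ, ρ (S.tor (∏ i ∈ s, Pi.mulSingle i (c i))) m =
      (∏ i ∈ s, ((f i).toHomUnits (c i) : k)) • m := by
    intro s
    induction s using Finset.induction_on with
    | empty => simp
    | insert i s hi ih =>
      rw [Finset.prod_insert hi, Finset.prod_insert hi, map_mul, map_mul, Module.End.mul_apply, ih, map_smul,
        ← Setup.h, h1, smul_smul, mul_comm]
  have := key Finset.univ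
  rwa [Finset.univ_prod_mulSingle] at this

/-- Every nonzero representation has a weight. -/
theorem exists_hasWeight [IsAlgClosed k] [FiniteDimensional k V] [Nontrivial V] (ρ : Representation k M V) :
    ∃ (w : Wt κ F k) (m : V), HasWeight S ρ w m := by
  classical
  obtain ⟨m0, hm0, hfix, he⟩ := exists_eigen S ρ
  choose! χ hχ using he
  let P : Set (Equiv.Perm ι) := {σ | ∃ n ∈ D.N, D.Acts n σ ∧ T D ρ n m0 ≠ 0}
  obtain ⟨σ, ⟨n, hn, hσ, hne⟩, hmax⟩ := Set.exists_max_image P D.inv (Set.toFinite P)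
    ⟨1, 1, D.N.one_mem, acts_one, by rwa [Setup.T_one hfix]⟩
  have he' : ∀ h ∈ D.H, ∃ μ : k, ρ h (T D ρ n m0) = μ • T D ρ n m0 := fun h hh =>
    ⟨_, S.T_eigen hfix hχ hn hh⟩
  obtain ⟨φ, hφ, htor⟩ := exists_phi S hne he'
  refine ⟨fun i => if φ i = 1 ∧ S.A ρ i (T D ρ n m0) = -T D ρ n m0 then none else some (φ i),
    T D ρ n m0, hne, Setup.T_fix hfix n, fun c => ?_, fun i => ?_⟩
  · rw [htor, psi]
    congr 1
    refine Finset.prod_congr rfl fun i _ => ?_
    simp only [phi]
    split_ifs with h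
    · simp [h.1]
    · simp
  by_cases hpos : D.Pos (σ⁻¹ (D.simp i))
  · have h0 : S.A ρ i (T D ρ n m0) = 0 := by
      rw [← S.T_ascend hfix hn hσ hpos]
      by_contra h
      have h1 := hmax (D.refl i * σ) ⟨_, D.N.mul_mem (nn_mem_N i) hn, (acts_nn S.ax i).mul hσ, h⟩
      obtain ⟨l, hl⟩ := exists_acts S.ax hn
      obtain rfl := acts_unique S.ax hσ hl
      rw [inv_refl_mul S.ax l hpos] at h1
      omega
    have hP : ¬ (φ i = 1 ∧ S.A ρ i (T D ρ n m0) = -T D ρ n m0) := fun h =>
      hne (neg_eq_zero.1 (h.2.symm.trans h0))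
    simp [lam, hP, h0]
  · have h1 := S.A_descend hfix hχ hn hσ hpos
    have h2 : ∀ a, χ (n⁻¹ * S.h i a * n) = (φ i a : k) := fun a =>
      smul_left_injective k hne ((S.T_eigen hfix hχ hn (S.h_mem i a)).symm.trans (hφ i a))
    simp only [h2, sum_units_eq (p := p)] at h1
    by_cases hφ1 : φ i = 1
    · rw [if_pos hφ1, neg_one_smul] at h1
      simp [lam, hφ1, h1]
    · rw [if_neg hφ1] at h1
      simp [lam, hφ1, h1]

/-- The span of the translates by the opposite group. -/
def opSpan (S : Setup D F p) (ρ : Representation k M V) (m : V) : Submodule k V :=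
  Submodule.span k (Set.range fun g : S.Uopp => ρ (g : M) m)

theorem mem_opSpan {m : V} {g : M} (hg : g ∈ S.Uopp) : ρ g m ∈ opSpan S ρ m :=
  Submodule.subset_span ⟨⟨g, hg⟩, rfl⟩

theorem self_mem_opSpan (m : V) : m ∈ opSpan S ρ m := by
  simpa using mem_opSpan S (ρ := ρ) (m := m) S.Uopp.one_mem

/-- Richen: the translates of a weight vector by the opposite group span an invariant subspace. -/
theorem inv_opSpan {w : Wt κ F k} {m : V} (hm : HasWeight S ρ w m) : Inv ρ (opSpan S ρ m) := by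
  classical
  set K := opSpan S ρ m with hK
  have hopp : ∀ g ∈ S.Uopp, ∀ x ∈ K, ρ g x ∈ K := by
    intro g hg
    show K ≤ K.comap (ρ g)
    refine Submodule.span_le.2 ?_
    rintro _ ⟨g', rfl⟩
    rw [SetLike.mem_coe, Submodule.mem_comap, ← Module.End.mul_apply, ← map_mul]
    exact mem_opSpan S (S.Uopp.mul_mem hg g'.2)
  have hne : ∀ (i : κ) (t : F), t ≠ 0 → ρ (S.x i t * D.nn i) m ∈ K := by
    intro i t ht
    set u : Fˣ := -Units.mk0 t ht with hu
    have h1 : ρ (D.nn i * S.x i ((u : F)⁻¹) * (D.nn i)⁻¹) m ∈ K :=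
      mem_opSpan S (S.X_le_Uopp (not_pos_opp_simp S.ax i) (S.nn_x_mem_opp i _))
    rw [S.flip i u, mul_assoc (S.x i (-(u : F))), show S.h i u * D.nn i = D.nn i * S.h i u⁻¹ by
      rw [S.nn_h, inv_inv], ← mul_assoc (S.x i (-(u : F))), map_mul, Module.End.mul_apply,
      hm.fix _ (S.x_mem_U _ _), map_mul, Module.End.mul_apply, hm.eig_h S, map_smul,
      show -(u : F) = t by simp [hu]] at h1
    exact (Submodule.smul_mem_iff K (Units.ne_zero _)).1 h1
  have hall : ∀ (i : κ) (t : F), ρ (S.x i t * D.nn i) m ∈ K := by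
    intro i t
    by_cases ht : t = 0
    · subst ht
      have h := S.A_apply hm.fix i
      rw [hm.eigA, ← Finset.add_sum_erase _ _ (Finset.mem_univ (0 : F))] at h
      rw [eq_sub_of_add_eq h.symm]
      exact K.sub_mem (K.smul_mem _ (self_mem_opSpan S m))
        (K.sum_mem fun s hs => hne i s (Finset.ne_of_mem_erase hs))
    · exact hne i t ht
  have hnn : ∀ i, ∀ x ∈ K, ρ (D.nn i) x ∈ K := by
    intro i
    show K ≤ K.comap (ρ (D.nn i))
    refine Submodule.span_le.2 ?_
    rintro _ ⟨g, rfl⟩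
    obtain ⟨v', y, hy, hv', e⟩ := S.exists_decomp_opp i g.2
    obtain ⟨s, rfl⟩ := S.exists_x_of_mem_opp i hy
    show ρ (D.nn i) (ρ (g : M) m) ∈ K
    rw [← Module.End.mul_apply, ← map_mul, e,
      show D.nn i * (v' * (D.nn i * S.x i s * (D.nn i)⁻¹)) =
        (D.nn i * v' * (D.nn i)⁻¹) * ((D.nn i * D.nn i) * S.x i s * (D.nn i)⁻¹) by group,
      map_mul, Module.End.mul_apply]
    refine hopp _ hv' _ ?_
    have e2 : (D.nn i * D.nn i) * S.x i s * (D.nn i)⁻¹ = S.x i s * D.nn i := by
      rw [mul_inv_eq_iff_eq_mul, mul_assoc (S.x i s), S.nn_sq, S.h_x]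
      simp
    rw [e2]
    exact hall i s
  intro g x hx
  let St : Submonoid M :=
    { carrier := {g | ∀ x ∈ K, ρ g x ∈ K}
      one_mem' := fun x hx => by simpa using hx
      mul_mem' := fun ha hb x hx => by rw [map_mul, Module.End.mul_apply]; exact ha _ (hb x hx) }
  have hg : g ∈ Subgroup.closure ((S.Uopp : Set M) ∪ Set.range D.nn) := by
    rw [S.closure_Uopp_nn]; exact Subgroup.mem_top g
  rw [← Subgroup.mem_toSubmonoid, Subgroup.closure_toSubmonoid_of_finite] at hg
  exact (Submonoid.closure_le (S := St)).2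
    (Set.union_subset (fun a ha => hopp a ha) (by rintro _ ⟨i, rfl⟩; exact hnn i)) hg x hx

theorem opSpan_eq_top (hρ : Irr ρ) {w : Wt κ F k} {m : V} (hm : HasWeight S ρ w m) : opSpan S ρ m = ⊤ :=
  (hρ.2 _ (inv_opSpan S hm)).resolve_left fun h => hm.ne <| by
    have := self_mem_opSpan S (ρ := ρ) m
    rwa [h, Submodule.mem_bot] at this

/-- An invariant functional is determined by its value at a weight vector. -/
theorem eq_zero_of_opp {m : V} {f : Module.Dual k V} (hf : ∀ g ∈ S.Uopp, ∀ x, f (ρ g x) = f x)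
    (h0 : f m = 0) {x : V} (hx : x ∈ opSpan S ρ m) : f x = 0 := by
  refine (show opSpan S ρ m ≤ LinearMap.ker f from Submodule.span_le.2 ?_) hx
  rintro _ ⟨g, rfl⟩
  rw [SetLike.mem_coe, LinearMap.mem_ker, hf _ g.2, h0]

omit S in
theorem irr_dual [FiniteDimensional k V] (hρ : Irr ρ) : Irr ρ.dual := by
  haveI := hρ.1
  refine ⟨inferInstance, fun U hU => ?_⟩
  have hinv : Inv ρ U.dualCoannihilator := by
    intro g x hx
    rw [Submodule.mem_dualCoannihilator] at hx ⊢
    intro f hf
    have := hx _ (hU g⁻¹ f hf)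
    simpa [Representation.dual_apply, Module.Dual.transpose_apply] using this
  have e := Subspace.dualCoannihilator_dualAnnihilator_eq (W := U)
  rcases hρ.2 _ hinv with h | h <;> rw [h] at e
  · exact Or.inr (by rw [← e, Submodule.dualAnnihilator_bot])
  · exact Or.inl (by rw [← e, Submodule.dualAnnihilator_top])

/-- An irreducible representation has one line fixed by `U`. -/
theorem fixed_unique [IsAlgClosed k] [FiniteDimensional k V] (hρ : Irr ρ) {v v' : V} (hv0 : v ≠ 0)
    (hv : UFix D ρ v) (hv' : UFix D ρ v') : ∃ c : k, v' = c • v := by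
  have hd := irr_dual hρ
  haveI := hd.1
  obtain ⟨w, m, hm⟩ := exists_hasWeight S ρ.dual
  have key : ∀ x, UFix D ρ x → m (ρ S.n0 x) = 0 → x = 0 := by
    intro x hx h0
    have h1 : ρ S.n0 x = 0 := by
      rw [← Module.forall_dual_apply_eq_zero_iff k]
      intro f
      refine eq_zero_of_opp S (ρ := ρ.dual) (f := Module.Dual.eval k V (ρ S.n0 x)) (fun g hg e => ?_) h0
        (opSpan_eq_top S hd hm ▸ Submodule.mem_top : f ∈ _)
      have h2 : ρ g⁻¹ (ρ S.n0 x) = ρ S.n0 x := by
        rw [← Module.End.mul_apply, ← map_mul,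
          show g⁻¹ * S.n0 = S.n0 * (S.n0⁻¹ * g⁻¹ * S.n0) by group, map_mul, Module.End.mul_apply,
          hx _ (S.mem_Uopp.1 (S.Uopp.inv_mem hg))]
      simp [Representation.dual_apply, Module.Dual.transpose_apply, h2]
    have := congrArg (ρ S.n0⁻¹) h1
    rwa [← Module.End.mul_apply, ← map_mul, inv_mul_cancel, map_one, Module.End.one_apply, map_zero] at this
  have hne : m (ρ S.n0 v) ≠ 0 := fun h => hv0 (key v hv h)
  refine ⟨m (ρ S.n0 v') / m (ρ S.n0 v), sub_eq_zero.1 (key _ (fun u hu => ?_) ?_)⟩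
  · rw [map_sub, map_smul, hv u hu, hv' u hu]
  · rw [map_sub, map_smul, map_sub, map_smul, smul_eq_mul, div_mul_cancel₀ _ hne, sub_self]

/-- An irreducible representation has one weight. -/
theorem weight_unique [IsAlgClosed k] [FiniteDimensional k V] (hρ : Irr ρ) {w w' : Wt κ F k} {m m' : V}
    (hm : HasWeight S ρ w m) (hm' : HasWeight S ρ w' m') : w = w' := by
  obtain ⟨c, hc⟩ := fixed_unique S hρ hm.ne hm.fix hm'.fix
  refine wt_ext (fun i => MonoidHom.ext fun a => Units.ext (smul_left_injective k hm'.ne ?_))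
    (fun i => smul_left_injective k hm'.ne ?_)
  · show (phi w i a : k) • m' = (phi w' i a : k) • m'
    rw [← hm'.eig_h S i a, hc, map_smul, hm.eig_h S, smul_comm]
  · show lam w i • m' = lam w' i • m'
    rw [← hm'.eigA i, hc, map_smul, hm.eigA, smul_comm]

/-- The direct sum of two representations. -/
def prodRep (ρ : Representation k M V) (σ : Representation k M W) : Representation k M (V × W) where
  toFun g := (ρ g).prodMap (σ g)
  map_one' := LinearMap.ext fun x => by simp
  map_mul' g h := LinearMap.ext fun x => by simp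

theorem exists_opp_functional [FiniteDimensional k V] (hρ : Irr ρ) {w : Wt κ F k} {m : V}
    (hm : HasWeight S ρ w m) : ∃ f : Module.Dual k V, (∀ g ∈ S.Uopp, ∀ x, f (ρ g x) = f x) ∧ f m ≠ 0 := by
  haveI := hρ.1
  have hP : IsPGroup p S.Uopp := IsPGroup.map S.isPGroup _
  obtain ⟨f, -, hf0, hf⟩ := Cfsg.Agent.Perm.ModuleHeart.exists_fixed_ne_zero hP
    (ρ.dual.comp S.Uopp.subtype) (W := ⊤) (fun _ _ _ => Submodule.mem_top) top_ne_bot
  have hinv : ∀ g ∈ S.Uopp, ∀ x, f (ρ g x) = f x := fun g hg x => by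
    have := LinearMap.congr_fun (hf ⟨g⁻¹, S.Uopp.inv_mem hg⟩) x
    simpa [Representation.dual_apply, Module.Dual.transpose_apply] using this
  refine ⟨f, hinv, fun h0 => hf0 (LinearMap.ext fun x => ?_)⟩
  exact eq_zero_of_opp S hinv h0 (opSpan_eq_top S hρ hm ▸ Submodule.mem_top : x ∈ _)

/-- Irreducible representations with the same weight are isomorphic. -/
theorem exists_intw_of_weight [FiniteDimensional k V] [FiniteDimensional k W] (hρ : Irr ρ) (hσ : Irr σ)
    {w : Wt κ F k} {m : V} {m' : W} (hm : HasWeight S ρ w m) (hm' : HasWeight S σ w m') :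
    ∃ f : W →ₗ[k] V, Intw σ ρ f ∧ f ≠ 0 := by
  let τ := prodRep ρ σ
  have hmm : HasWeight S τ w (m, m') := by
    refine ⟨fun h => hm.ne (congrArg Prod.fst h), fun u hu => ?_, fun c => ?_, fun i => ?_⟩
    · exact Prod.ext (hm.fix u hu) (hm'.fix u hu)
    · exact Prod.ext (hm.eig c) (hm'.eig c)
    · refine Prod.ext ?_ ?_
      · exact (intw_T (σ := ρ) (f := LinearMap.fst k V W) (fun _ _ => rfl) _ _).trans (hm.eigA i)
      · exact (intw_T (σ := σ) (f := LinearMap.snd k V W) (fun _ _ => rfl) _ _).trans (hm'.eigA i)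
  set X := opSpan S τ (m, m') with hXdef
  have hXinv : Inv τ X := inv_opSpan S hmm
  have hker : ∀ x : V, (x, (0 : W)) ∈ X → x = 0 := by
    intro x hx
    have hU1 : Inv ρ (X.comap (LinearMap.inl k V W)) := fun g y hy => by
      have := hXinv g _ hy
      simpa [τ, prodRep] using this
    rcases hρ.2 _ hU1 with h | h
    · exact (Submodule.mem_bot k).1 (h ▸ hx)
    exfalso
    obtain ⟨f, hf, hfm⟩ := exists_opp_functional S hρ hm
    obtain ⟨f', hf', hfm'⟩ := exists_opp_functional S hσ hm'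
    let G : Module.Dual k (V × W) := f' m' • f.comp (LinearMap.fst k V W) - f m • f'.comp (LinearMap.snd k V W)
    have hm0 : (m, (0 : W)) ∈ X := (h.ge Submodule.mem_top : m ∈ X.comap (LinearMap.inl k V W))
    have := eq_zero_of_opp S (ρ := τ) (f := G) (fun g hg y => ?_) (by simp [G, mul_comm]) hm0
    · simp [G, hfm, hfm'] at this
    · simp [G, τ, prodRep, hf g hg, hf' g hg]
  let e2 : X →ₗ[k] W := (LinearMap.snd k V W).comp X.subtype
  have hinj : Function.Injective e2 := by
    rw [← LinearMap.ker_eq_bot, LinearMap.ker_eq_bot']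
    intro y hy
    obtain ⟨⟨a, b⟩, hab⟩ := y
    obtain rfl : b = 0 := hy
    simp [hker a hab]
  have hsurj : Function.Surjective e2 := by
    refine surjective_of_intw (ρ := (resRep τ hXinv)) hσ (fun g y => rfl) fun h => hm'.ne ?_
    exact LinearMap.congr_fun h ⟨(m, m'), self_mem_opSpan S _⟩
  let e := LinearEquiv.ofBijective e2 ⟨hinj, hsurj⟩
  refine ⟨(LinearMap.fst k V W).comp (X.subtype.comp e.symm.toLinearMap), fun g y => ?_, fun h => hm.ne ?_⟩
  · have : e.symm (σ g y) = resRep τ hXinv g (e.symm y) := by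
      refine e.injective ?_
      rw [LinearEquiv.apply_symm_apply]
      exact congrArg (σ g) (e.apply_symm_apply y).symm
    show ((e.symm (σ g y)) : V × W).1 = ρ g ((e.symm y : V × W).1)
    rw [this]
    rfl
  · have h1 := LinearMap.congr_fun h m'
    have h2 : e.symm m' = ⟨(m, m'), self_mem_opSpan S _⟩ := e.injective (by rw [e.apply_symm_apply]; rfl)
    simpa [h2] using h1

end Cfsg.Agent.CurtisRichen
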