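/-
Every weight occurs: the number of classes of `p`-regular elements is `q ^ rank`.
-/
import Cfsg.Agent.Lib.CurtisRichen.Weight
import Cfsg.Agent.Lib.Modular.SimpleCount
import Mathlib.GroupTheory.FiniteAbelian.Duality
import Mathlib.RingTheory.RootsOfUnity.AlgebraicallyClosed

set_option autoImplicit false
set_option linter.unusedSectionVars false
set_option linter.style.haveILetI false

namespace Cfsg.Agent.CurtisRichen

open Cfsg.Agent.RootBN Cfsg.Agent.RootBN.Data Cfsg.Agent.Blocks.CyclicDefect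
open Setup (KW mk_eq_iff_mem mem_cell_mul)

variable {M : Type*} [Group M] [Finite M] {ι κ : Type*} [DecidableEq κ] [Fintype κ] [Finite ι]
variable {F : Type*} [Field F] [Fintype F] [DecidableEq F] {k : Type*} [Field k]
variable {D : Data M ι κ} {p : ℕ} [Fact p.Prime] [CharP F p] [CharP k p] (S : Setup D F p)

/-- The permutation module on `M ⧸ U`. -/
def permR (D : Data M ι κ) (k : Type*) [Field k] : Representation k M (M ⧸ D.U → k) where
  toFun g := LinearMap.funLeft k k fun x => g⁻¹ • x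
  map_one' := LinearMap.ext fun f => funext fun x => by simp [LinearMap.funLeft_apply]
  map_mul' g h := LinearMap.ext fun f => funext fun x => by
    simp [LinearMap.funLeft_apply, mul_smul]

theorem permR_apply (g : M) (f : M ⧸ D.U → k) (x : M ⧸ D.U) : permR D k g f x = f (g⁻¹ • x) := rfl

open Classical in
theorem permR_single (g : M) (y : M ⧸ D.U) :
    permR D k g (Pi.single y 1) = Pi.single (g • y) 1 := by
  funext x
  rw [permR_apply, Pi.single_apply, Pi.single_apply]
  simp only [inv_smul_eq_iff]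

theorem psi_eq_of_agree {w : Wt κ F k} {c c' : κ → Fˣ} (h : ∀ i ∉ {i | w i = some 1}, c' i = c i) :
    psi w c' = psi w c :=
  Finset.prod_congr rfl fun i _ => by
    by_cases hi : w i = some 1
    · simp [phi, hi]
    · rw [h i hi]

include S

/-- The character of the torus on the starting vector. -/
noncomputable def chi0 (S : Setup D F p) (w : Wt κ F k) (h : M) : k :=
  psi w (Function.invFun S.tor (S.n0 * h * S.n0⁻¹))

theorem chi0_conj (w : Wt κ F k) {h : M} {c : κ → Fˣ} (e : S.n0 * h * S.n0⁻¹ = S.tor c) :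
    chi0 S w h = psi w c := by
  rw [chi0, e, Function.leftInverse_invFun S.tor_inj c]

theorem chi0_mul (w : Wt κ F k) {h h' : M} (hh : h ∈ D.H) (hh' : h' ∈ D.H) :
    chi0 S w (h * h') = chi0 S w h * chi0 S w h' := by
  obtain ⟨c, hc⟩ := (S.H_eq _).1 (N_conj_H S.ax S.n0_mem hh)
  obtain ⟨c', hc'⟩ := (S.H_eq _).1 (N_conj_H S.ax S.n0_mem hh')
  rw [chi0_conj S w hc.symm, chi0_conj S w hc'.symm, ← psi_mul]
  exact chi0_conj S w (by rw [map_mul, hc, hc']; group)

theorem chi0_one (w : Wt κ F k) : chi0 S w 1 = 1 := by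
  rw [chi0_conj S w (c := 1) (by simp)]
  simp [psi]

theorem chi0_ne_zero (w : Wt κ F k) (h : M) : chi0 S w h ≠ 0 := psi_ne_zero _ _

open Classical in
/-- An eigenvector of the torus in the permutation module. -/
noncomputable def seed (S : Setup D F p) (w : Wt κ F k) : M ⧸ D.U → k :=
  ∑ c : κ → Fˣ, (chi0 S w (S.tor c))⁻¹ • Pi.single (QuotientGroup.mk (S.tor c) : M ⧸ D.U) 1

theorem seed_fix (w : Wt κ F k) : UFix D (permR D k) (seed S w) := by
  classical
  intro u hu
  simp only [seed, map_sum, map_smul, permR_single]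
  refine Finset.sum_congr rfl fun c _ => ?_
  congr 2
  rw [MulAction.Quotient.smul_mk, smul_eq_mul]
  exact mk_eq_iff_mem.2 ⟨((S.tor c)⁻¹ * u * S.tor c)⁻¹, D.U.inv_mem (S.conj_U_mem (S.tor_mem c) hu), by group⟩

theorem seed_eigen (w : Wt κ F k) : ∀ h ∈ D.H, permR D k h (seed S w) = chi0 S w h • seed S w := by
  classical
  intro h hh
  obtain ⟨d, rfl⟩ := (S.H_eq _).1 hh
  simp only [seed, map_sum, map_smul, permR_single, Finset.smul_sum, smul_smul, MulAction.Quotient.smul_mk,
    smul_eq_mul]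
  refine Fintype.sum_equiv (Equiv.mulLeft d) _ _ fun c => ?_
  rw [Equiv.coe_mulLeft, map_mul, chi0_mul S w hh (S.tor_mem c), mul_inv,
    mul_inv_cancel_left₀ (chi0_ne_zero S w _)]

theorem seed_coeff (w : Wt κ F k) (n : M) (P : M ⧸ D.U) [DecidableEq (M ⧸ D.U)] :
    T D (permR D k) n (seed S w) P = ∑ y ∈ orb D n, ∑ c : κ → Fˣ,
      if P = QuotientGroup.mk (y.out * S.tor c) then (chi0 S w (S.tor c))⁻¹ else 0 := by
  classical
  simp [T, seed, LinearMap.sum_apply, map_sum, map_smul, permR_single, Finset.sum_apply, Pi.single_apply,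
    MulAction.Quotient.smul_mk]
  simp only [Finset.mul_sum, mul_ite, mul_one, mul_zero]
  exact Finset.sum_comm

theorem seed_coeff_self (w : Wt κ F k) {n : M} (hn : n ∈ D.N) :
    T D (permR D k) n (seed S w) (QuotientGroup.mk n) = 1 := by
  classical
  rw [seed_coeff S]
  have key : ∀ y ∈ orb D n, ∀ c : κ → Fˣ, (QuotientGroup.mk n : M ⧸ D.U) = QuotientGroup.mk (y.out * S.tor c) →
      y = QuotientGroup.mk n ∧ c = 1 := by
    intro y hy c e
    obtain ⟨u, hu, rfl⟩ := mem_orb.1 hy
    obtain ⟨u', hu'⟩ := QuotientGroup.mk_out_eq_mul D.U (u * n)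
    obtain ⟨v, hv, e'⟩ := mk_eq_iff_mem.1 e
    rw [hu'] at e'
    have h1 : (QuotientGroup.mk (u⁻¹ * n) : M ⧸ D.U) = QuotientGroup.mk (n * S.tor c) := by
      refine mk_eq_iff_mem.2 ⟨v * ((S.tor c)⁻¹ * u' * S.tor c)⁻¹,
        D.U.mul_mem hv (D.U.inv_mem (S.conj_U_mem (S.tor_mem c) u'.2)), ?_⟩
      calc n * S.tor c = u⁻¹ * (u * n * u' * S.tor c) * ((S.tor c)⁻¹ * u' * S.tor c)⁻¹ := by group
        _ = _ := by rw [e']; group
    have hc : c = 1 := S.tor_inj ((S.eq_one_of_orbit hn (S.tor_mem c) (D.U.inv_mem hu) h1).trans (map_one _).symm)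
    subst hc
    rw [map_one, mul_one, QuotientGroup.out_eq'] at e
    exact ⟨e.symm, rfl⟩
  rw [Finset.sum_eq_single (QuotientGroup.mk n : M ⧸ D.U), Finset.sum_eq_single (1 : κ → Fˣ)]
  · rw [map_one, mul_one, QuotientGroup.out_eq', if_pos rfl, chi0_one, _root_.inv_one]
  · exact fun c _ hc => if_neg fun e => hc (key _ (mem_orb.2 ⟨1, D.U.one_mem, by simp⟩) c e).2
  · simp
  · exact fun y hy hne => Finset.sum_eq_zero fun c _ => if_neg fun e => hne (key y hy c e).1
  · exact fun h => absurd (mem_orb.2 ⟨1, D.U.one_mem, by simp⟩) h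

theorem seed_coeff_other (w : Wt κ F k) {n n' : M} {σ σ' : Equiv.Perm ι} (hn : n ∈ D.N) (hn' : n' ∈ D.N)
    (hσ : D.Acts n σ) (hσ' : D.Acts n' σ') (hne : σ ≠ σ') :
    T D (permR D k) n (seed S w) (QuotientGroup.mk n') = 0 := by
  classical
  rw [seed_coeff S]
  refine Finset.sum_eq_zero fun y hy => Finset.sum_eq_zero fun c _ => if_neg fun e => hne ?_
  obtain ⟨u, hu, rfl⟩ := mem_orb.1 hy
  obtain ⟨u', hu'⟩ := QuotientGroup.mk_out_eq_mul D.U (u * n)
  obtain ⟨v, hv, e'⟩ := mk_eq_iff_mem.1 e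
  rw [hu'] at e'
  obtain ⟨l, hl⟩ := exists_acts S.ax hn
  obtain ⟨l', hl'⟩ := exists_acts S.ax hn'
  have h1 := mem_cell_mul hn hl (U_le_B hu) (D.B.mul_mem (U_le_B u'.2) (H_le_B (S.tor_mem c)))
  have h2 := mem_cell_mul hn' hl' D.B.one_mem (U_le_B hv)
  rw [one_mul, ← e', show u * n * (u' : M) * S.tor c = u * n * ((u' : M) * S.tor c) by group] at h2
  rw [acts_unique S.ax hσ hl, acts_unique S.ax hσ' hl']
  exact cell_disjoint S.ax h1 h2

open Classical in
/-- The Weyl group of the letters of trivial weight. -/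
noncomputable def weylK (S : Setup D F p) (w : Wt κ F k) : Finset (Equiv.Perm ι) :=
  (Set.toFinite {σ | ∃ l, KW {i | w i = some 1} l ∧ D.wl l = σ}).toFinset

open Classical in
/-- A word for an element of `weylK`. -/
noncomputable def wordK (S : Setup D F p) (w : Wt κ F k) (σ : Equiv.Perm ι) : List κ :=
  if h : ∃ l, KW {i | w i = some 1} l ∧ D.wl l = σ then Classical.choose h else []

theorem wordK_spec (w : Wt κ F k) {σ : Equiv.Perm ι} (h : σ ∈ weylK S w) :
    KW {i | w i = some 1} (wordK S w σ) ∧ D.wl (wordK S w σ) = σ := by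
  classical
  have h' : ∃ l, KW {i | w i = some 1} l ∧ D.wl l = σ := by simpa [weylK] using h
  rw [wordK, dif_pos h']
  exact Classical.choose_spec h'

/-- The term of an element of `weylK`. -/
noncomputable def term (S : Setup D F p) (w : Wt κ F k) (σ : Equiv.Perm ι) : M ⧸ D.U → k :=
  T D (permR D k) (D.nw (wordK S w σ) * S.n0) (seed S w)

/-- The vector of weight `w`. -/
noncomputable def wtVec (S : Setup D F p) (w : Wt κ F k) : M ⧸ D.U → k := ∑ σ ∈ weylK S w, term S w σ

theorem T_congr (w : Wt κ F k) {l l' : List κ} (hl : KW {i | w i = some 1} l)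
    (hl' : KW {i | w i = some 1} l') (e : D.wl l = D.wl l') :
    T D (permR D k) (D.nw l * S.n0) (seed S w) = T D (permR D k) (D.nw l' * S.n0) (seed S w) := by
  obtain ⟨g, hg, eg⟩ := S.nw_congr hl hl' e
  have hH : S.n0⁻¹ * g * S.n0 ∈ D.H := by
    have := N_conj_H S.ax (D.N.inv_mem S.n0_mem) (S.HK_le _ hg)
    rwa [inv_inv] at this
  rw [eg, show D.nw l' * g * S.n0 = D.nw l' * S.n0 * (S.n0⁻¹ * g * S.n0) by group,
    S.T_mul_H (seed_fix S w) _ hH, seed_eigen S w _ hH, map_smul]
  obtain ⟨c, hc, rfl⟩ := hg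
  rw [chi0_conj S w (c := c) (by group), psi_eq_of_agree (c := 1) (fun i hi => by simpa using hc i hi)]
  simp [psi]

theorem chi0_word (w : Wt κ F k) {l : List κ} (hl : KW {i | w i = some 1} l) (c : κ → Fˣ) :
    chi0 S w ((D.nw l * S.n0)⁻¹ * S.tor c * (D.nw l * S.n0)) = psi w c := by
  obtain ⟨c', e, hc'⟩ := S.conj_tor_KW hl c
  rw [chi0_conj S w (c := c') (by rw [← e]; group), psi_eq_of_agree hc']

theorem term_eig (w : Wt κ F k) {σ : Equiv.Perm ι} (h : σ ∈ weylK S w) (c : κ → Fˣ) :
    permR D k (S.tor c) (term S w σ) = psi w c • term S w σ := by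
  rw [term, S.T_eigen (seed_fix S w) (seed_eigen S w) (D.N.mul_mem (nw_mem_N _) S.n0_mem) (S.tor_mem c),
    chi0_word S w (wordK_spec S w h).1]

theorem term_descend (w : Wt κ F k) {σ : Equiv.Perm ι} (h : σ ∈ weylK S w) {i : κ}
    (hi : D.Pos (σ⁻¹ (D.simp i))) :
    S.A (permR D k) i (term S w σ) = (∑ a, (phi w i a : k)) • term S w σ := by
  obtain ⟨h1, h2⟩ := wordK_spec S w h
  have hσ := (acts_nw S.ax (wordK S w σ)).mul S.acts_n0
  rw [h2] at hσ
  rw [term, S.A_descend (seed_fix S w) (seed_eigen S w) (D.N.mul_mem (nw_mem_N _) S.n0_mem) hσ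
    (by rw [mul_inv_rev, Equiv.Perm.mul_apply, S.pos_σ0_inv, not_not]; exact hi)]
  congr 1
  exact Finset.sum_congr rfl fun a _ => by rw [Setup.h, chi0_word S w h1, psi_single]

theorem wtVec_eigA (w : Wt κ F k) (i : κ) :
    S.A (permR D k) i (wtVec S w) = lam w i • wtVec S w := by
  classical
  by_cases hi : w i = some 1
  · rw [show lam w i = (0 : k) by simp [lam, hi], zero_smul, wtVec, map_sum]
    have hmem : ∀ σ ∈ weylK S w, D.refl i * σ ∈ weylK S w := by
      intro σ hσ
      obtain ⟨h1, h2⟩ := wordK_spec S w hσ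
      simp only [weylK, Set.Finite.mem_toFinset, Set.mem_ofPred_eq]
      refine ⟨i :: wordK S w σ, ?_, by rw [wl_cons, h2]⟩
      intro j hj
      rcases List.mem_cons.1 hj with rfl | hj
      exacts [hi, h1 j hj]
    have key : ∀ σ ∈ weylK S w, ¬ D.Pos (σ⁻¹ (D.simp i)) →
        S.A (permR D k) i (term S w σ) + S.A (permR D k) i (term S w (D.refl i * σ)) = 0 := by
      intro σ hσ hneg
      obtain ⟨h1, h2⟩ := wordK_spec S w hσ
      obtain ⟨h1', h2'⟩ := wordK_spec S w (hmem σ hσ)
      have hopp : ∀ r, σ⁻¹ (D.opp r) = D.opp (σ⁻¹ r) := fun r => by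
        rw [← h2, ← wl_reverse S.ax, wl_opp S.ax]
      have hσ' := (acts_nw S.ax (wordK S w σ)).mul S.acts_n0
      rw [h2] at hσ'
      have e1 : S.A (permR D k) i (term S w σ) = term S w (D.refl i * σ) := by
        rw [term, ← S.T_ascend (seed_fix S w) (D.N.mul_mem (nw_mem_N _) S.n0_mem) hσ'
          (by rw [mul_inv_rev, Equiv.Perm.mul_apply, S.pos_σ0_inv]; exact hneg), ← mul_assoc, ← nw_cons]
        refine T_congr S w ?_ h1' (by rw [wl_cons, h2, h2'])
        intro j hj
        rcases List.mem_cons.1 hj with rfl | hj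
        exacts [hi, h1 j hj]
      rw [e1, term_descend S w (hmem σ hσ) (i := i) (by
        rw [mul_inv_rev, Equiv.Perm.mul_apply, refl_inv S.ax, S.ax.refl_simp, hopp, S.ax.pos_opp]
        exact hneg), sum_units_eq (p := p), if_pos (show phi w i = 1 by simp [phi, hi]), neg_one_smul,
        add_neg_cancel]
    refine Finset.sum_involution (fun σ _ => D.refl i * σ) (fun σ hσ => ?_) (fun σ _ _ e => ?_) hmem
      (fun σ _ => refl_mul_refl_mul S.ax i σ)
    · by_cases hp : D.Pos (σ⁻¹ (D.simp i))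
      · have h := key _ (hmem σ hσ) (by
          rw [mul_inv_rev, Equiv.Perm.mul_apply, refl_inv S.ax, S.ax.refl_simp]
          obtain ⟨-, h2⟩ := wordK_spec S w hσ
          rw [← h2, ← wl_reverse S.ax, wl_opp S.ax, wl_reverse S.ax, h2, S.ax.pos_opp, not_not]
          exact hp)
        rw [refl_mul_refl_mul S.ax, add_comm] at h
        exact h
      · exact key σ hσ hp
    · rw [mul_eq_right] at e
      exact S.refl_ne_one i e
  · have hscal : (∑ a, (phi w i a : k)) = lam w i := by
      rw [sum_units_eq (p := p)]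
      rcases hw : w i with _ | a
      · simp [phi, lam, hw]
      · have ha : a ≠ 1 := fun h => hi (by rw [hw, h])
        simp [phi, lam, hw, ha]
    rw [wtVec, map_sum, Finset.smul_sum]
    refine Finset.sum_congr rfl fun σ hσ => ?_
    obtain ⟨h1, h2⟩ := wordK_spec S w hσ
    rw [term_descend S w hσ (i := i) (by
      rw [← h2, ← wl_reverse S.ax]
      exact S.pos_of_not_mem hi h1.reverse), hscal]

theorem hasWeight_wtVec (w : Wt κ F k) : HasWeight S (permR D k) w (wtVec S w) := by
  classical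
  refine ⟨fun h => ?_, ?_, fun c => ?_, wtVec_eigA S w⟩
  · have h1 : (1 : Equiv.Perm ι) ∈ weylK S w := by
      simp only [weylK, Set.Finite.mem_toFinset, Set.mem_ofPred_eq]
      exact ⟨[], fun j hj => (List.not_mem_nil hj).elim, wl_nil⟩
    have h2 := congrFun h (QuotientGroup.mk (D.nw (wordK S w 1) * S.n0))
    rw [wtVec, Finset.sum_apply, Finset.sum_eq_single (1 : Equiv.Perm ι)] at h2
    · rw [term, seed_coeff_self S w (D.N.mul_mem (nw_mem_N _) S.n0_mem)] at h2
      exact one_ne_zero h2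
    · intro σ hσ hne
      refine seed_coeff_other S w (D.N.mul_mem (nw_mem_N _) S.n0_mem) (D.N.mul_mem (nw_mem_N _) S.n0_mem)
        ((acts_nw S.ax _).mul S.acts_n0) ((acts_nw S.ax _).mul S.acts_n0) fun e => hne ?_
      rw [(wordK_spec S w hσ).2, (wordK_spec S w h1).2, mul_left_inj] at e
      exact e
    · exact fun h3 => absurd h1 h3
  · intro u hu
    rw [wtVec, map_sum]
    exact Finset.sum_congr rfl fun σ _ => Setup.T_fix (seed_fix S w) _ u hu
  · rw [wtVec, map_sum, Finset.smul_sum]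
    exact Finset.sum_congr rfl fun σ hσ => term_eig S w hσ c

/-- An irreducible representation of any given weight. -/
theorem exists_irr_weight (w : Wt κ F k) :
    ∃ (X : Submodule k (M ⧸ D.U → k)) (hX : Inv (permR D k) X) (Y : Submodule k X)
      (hY : Inv (resRep (permR D k) hX) Y) (m : X ⧸ Y),
      Irr (quotRep (resRep (permR D k) hX) hY) ∧ HasWeight S (quotRep (resRep (permR D k) hX) hY) w m := by
  have hm := hasWeight_wtVec S w
  have hX := inv_opSpan S hm
  set X := opSpan S (permR D k) (wtVec S w) with hXdef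
  set m : X := ⟨wtVec S w, self_mem_opSpan S _⟩
  have hmX : HasWeight S (resRep (permR D k) hX) w m := by
    refine ⟨fun h => hm.ne (congrArg Subtype.val h), fun u hu => Subtype.ext (hm.fix u hu),
      fun c => Subtype.ext (hm.eig c), fun i => Subtype.ext ?_⟩
    exact (intw_T (σ := permR D k) (intw_subtype hX) (D.nn i) m).trans (hm.eigA i)
  haveI : Nontrivial X := nontrivial_of_ne _ _ hmX.ne
  obtain ⟨Y, hY, hirr⟩ := exists_irr_quotient (resRep (permR D k) hX)
  refine ⟨X, hX, Y, hY, Y.mkQ m, hirr, hmX.map S (intw_mkQ hY) fun h => ?_⟩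
  have hmY : m ∈ Y := (Submodule.Quotient.mk_eq_zero Y).1 h
  have hle : X ≤ Y.map X.subtype := by
    refine Submodule.span_le.2 ?_
    rintro _ ⟨g, rfl⟩
    exact ⟨resRep (permR D k) hX g m, hY g m hmY, rfl⟩
  refine Submodule.Quotient.nontrivial_iff.1 hirr.1 (eq_top_iff.2 fun z _ => ?_)
  obtain ⟨z', hz', e⟩ := hle z.2
  rwa [← show z' = z from Subtype.ext e]

omit S in
include p in
/-- Weights are `q ^ rank` in number. -/
theorem card_wt [IsAlgClosed k] : Nat.card (Wt κ F k) = Fintype.card F ^ Fintype.card κ := by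
  classical
  have h0 : NeZero ((Monoid.exponent Fˣ : ℕ) : k) := ⟨fun h => by
    rw [CharP.cast_eq_zero_iff k p] at h
    have h2 := h.trans (Group.exponent_dvd_nat_card (G := Fˣ))
    rw [Nat.card_eq_fintype_card, Fintype.card_units] at h2
    obtain ⟨n, hp, hn⟩ := FiniteField.card F p
    have h3 : p ∣ Fintype.card F := hn ▸ dvd_pow_self p n.pos.ne'
    have := Nat.dvd_sub h3 h2
    rw [Nat.sub_sub_self Fintype.card_pos] at this
    exact hp.one_lt.ne' (Nat.dvd_one.1 this)⟩
  haveI : Finite (Fˣ →* kˣ) := Nat.finite_of_card_ne_zero (by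
    rw [CommGroup.card_monoidHom_of_hasEnoughRootsOfUnity]; exact Nat.card_pos.ne')
  rw [Nat.card_fun, Nat.card_eq_fintype_card (α := κ), Finite.card_option,
    CommGroup.card_monoidHom_of_hasEnoughRootsOfUnity, Nat.card_eq_fintype_card, Fintype.card_units,
    Nat.sub_add_cancel Fintype.card_pos]

/-- Steinberg's count. -/
theorem card_regClass [IsAlgClosed k] :
    Nat.card (Modular.RegClass p M) = Fintype.card F ^ Fintype.card κ := by
  classical
  rw [← card_wt (κ := κ) (F := F) (k := k) (p := p)]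
  haveI : Finite (Wt κ F k) := Nat.finite_of_card_ne_zero (by
    rw [card_wt (p := p)]; exact pow_ne_zero _ Fintype.card_ne_zero)
  haveI := Fintype.ofFinite (Wt κ F k)
  refine le_antisymm ?_ ?_
  · obtain ⟨n, d, τ, hn, hirr, hne⟩ := Modular.exists_irr_family (p := p) k (G := M)
    haveI : ∀ i, Nontrivial (Fin (d i) → k) := fun i => (hirr i).1
    choose w m hm using fun i => exists_hasWeight S (τ i)
    have hinj : Function.Injective w := fun i j e => by
      by_contra hij
      obtain ⟨f, hf, hf0⟩ := exists_intw_of_weight S (hirr i) (hirr j) (hm i) (e ▸ hm j)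
      exact hf0 (hne j i f hf (Ne.symm hij))
    refine hn.trans ?_
    rw [← Nat.card_fin n]
    exact Nat.card_le_card_of_injective w hinj
  · choose X hX Y hY m hirr hm using fun w : Wt κ F k => exists_irr_weight S w
    rw [Nat.card_eq_fintype_card]
    refine Modular.card_le_regClass (p := p) k (fun w => quotRep (resRep (permR D k) (hX w)) (hY w)) hirr
      fun w w' f hf hne => by_contra fun hf0 => hne ?_
    have h1 := (hm w).map S hf fun h => (hm w).ne (injective_of_intw (hirr w) hf hf0 (by rw [h, map_zero]))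
    exact weight_unique S (hirr w') h1 (hm w')

end Cfsg.Agent.CurtisRichen
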