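/-
The setup of a Chevalley group whose simply connected cover has trivial centre, and its count of classes of
regular elements.
-/
import Cfsg.Agent.Lib.CurtisRichen.Realise
import Cfsg.Agent.Lib.Chev.BNStruct
import Cfsg.Agent.Lib.Chev.TorusOrder

set_option autoImplicit false
set_option linter.unusedSectionVars false
set_option linter.style.haveILetI false

namespace Cfsg.Agent.CurtisRichen

open Cfsg.Agent.RootBN

section restrict

variable {G : Type*} [Group G] {ι κ : Type*} (D : Data G ι κ) (K : Subgroup G)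

/-- The root data inside a subgroup containing them. -/
def restrictData (hn : ∀ i, D.nn i ∈ K) (hr : ∀ r, D.nroot r ∈ K) : Data K ι κ where
  X r := (D.X r).subgroupOf K
  H := D.H.subgroupOf K
  nn i := ⟨D.nn i, hn i⟩
  nroot r := ⟨D.nroot r, hr r⟩
  refl := D.refl
  opp := D.opp
  simp := D.simp
  Pos := D.Pos

theorem map_iSup_subgroupOf (P : ι → Prop) (hX : ∀ r, D.X r ≤ K) :
    (⨆ (r : ι) (_ : P r), (D.X r).subgroupOf K).map K.subtype = ⨆ (r : ι) (_ : P r), D.X r := by
  rw [Subgroup.map_iSup]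
  simp only [Subgroup.map_iSup, Subgroup.map_subgroupOf_eq_of_le (hX _)]

variable {D K} {hn : ∀ i, D.nn i ∈ K} {hr : ∀ r, D.nroot r ∈ K}

theorem mem_U_restrict (hX : ∀ r, D.X r ≤ K) {g : K} :
    g ∈ (restrictData D K hn hr).U ↔ (g : G) ∈ D.U := by
  show _ ↔ _ ∈ ⨆ (r : ι) (_ : D.Pos r), D.X r
  rw [← map_iSup_subgroupOf D K D.Pos hX, ← Subgroup.mem_map_iff_mem K.subtype_injective]
  rfl

theorem mem_Urad_restrict (hX : ∀ r, D.X r ≤ K) {i : κ} {g : K} :
    g ∈ (restrictData D K hn hr).Urad i ↔ (g : G) ∈ D.Urad i := by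
  show _ ↔ _ ∈ ⨆ (r : ι) (_ : D.Pos r ∧ r ≠ D.simp i), D.X r
  rw [← map_iSup_subgroupOf D K (fun r => D.Pos r ∧ r ≠ D.simp i) hX,
    ← Subgroup.mem_map_iff_mem K.subtype_injective]
  rfl

theorem coe_mem_B (hX : ∀ r, D.X r ≤ K) {g : K} (hg : g ∈ (restrictData D K hn hr).B) : (g : G) ∈ D.B := by
  refine (show (restrictData D K hn hr).B ≤ D.B.comap K.subtype from sup_le ?_ ?_) hg
  · exact fun y hy => Data.U_le_B ((mem_U_restrict hX).1 hy)
  · exact fun y hy => Data.H_le_B (Subgroup.mem_subgroupOf.1 hy)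

theorem restrict_grp (hK : D.grp = K) : (restrictData D K hn hr).grp = ⊤ := by
  apply Subgroup.map_injective K.subtype_injective
  rw [Data.grp, Subgroup.map_iSup, ← MonoidHom.range_eq_map, Subgroup.range_subtype]
  conv_rhs => rw [← hK]
  exact iSup_congr fun r => Subgroup.map_subgroupOf_eq_of_le (hK ▸ Data.X_le_grp r)

theorem restrict_axioms (ax : D.Axioms) (hK : D.grp = K) : (restrictData D K hn hr).Axioms := by
  have hX : ∀ r, D.X r ≤ K := fun r => hK ▸ Data.X_le_grp r
  refine
  { pos_opp := ax.pos_opp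
    opp_opp := ax.opp_opp
    pos_simp := ax.pos_simp
    refl_simp := ax.refl_simp
    refl_opp := ax.refl_opp
    refl_refl := ax.refl_refl
    refl_pos := ax.refl_pos
    simp_inj := ax.simp_inj
    reach := ax.reach
    X_inj := ?_
    X_ne_bot := ?_
    H_le := by rw [restrict_grp hK]; exact le_top
    nn_mem := fun i => by rw [restrict_grp hK]; exact Subgroup.mem_top _
    conj_X := fun i r y hy => ax.conj_X i r y.1 hy
    H_conj := fun r h hh y hy => ax.H_conj r h.1 hh y.1 hy
    nn_H := fun i h hh => ax.nn_H i h.1 hh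
    nn_sq := fun i => ax.nn_sq i
    nroot_simp := fun i => Subtype.ext (ax.nroot_simp i)
    conj_nroot := ?_
    simp_normal := fun i r hp hne y hy z hz =>
      (mem_Urad_restrict hX).2 (ax.simp_normal i r hp hne y.1 hy z.1 hz)
    rank_one := ?_
    neg_not_mem := ?_ }
  · intro r s h
    have h' := congrArg (Subgroup.map K.subtype) h
    simp only [restrictData, Subgroup.map_subgroupOf_eq_of_le (hX _)] at h'
    exact ax.X_inj h'
  · intro r h
    refine ax.X_ne_bot r ?_
    rw [← Subgroup.map_subgroupOf_eq_of_le (hX r), show (D.X r).subgroupOf K = ⊥ from h, Subgroup.map_bot]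
  · intro i r
    obtain ⟨h, hh, e⟩ := ax.conj_nroot i r
    exact ⟨⟨h, hK ▸ ax.H_le hh⟩, hh, Subtype.ext e⟩
  · intro i y hy hy1
    obtain ⟨a, ha, h, hh, b, hb, e⟩ := ax.rank_one i y.1 hy (fun h => hy1 (Subtype.ext h))
    exact ⟨⟨a, hX _ ha⟩, ha, ⟨h, hK ▸ ax.H_le hh⟩, hh, ⟨b, hX _ hb⟩, hb, Subtype.ext e⟩
  · intro r hneg
    rw [Subgroup.eq_bot_iff_forall]
    rintro y ⟨hy, hyB⟩
    have : (y : G) ∈ D.X r ⊓ D.B := ⟨hy, coe_mem_B hX hyB⟩
    rw [ax.neg_not_mem r hneg, Subgroup.mem_bot] at this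
    exact Subtype.ext this

end restrict

section chev

open Cfsg.Lie Cfsg.Agent.Chev Cfsg.Agent.Chev.BNSetup
open scoped MatrixGroups Matrix

variable {F : Type*} [Field F] {D : ChevalleyDatum} (hG : Good D) {tabs simps : List ℕ}
  (hf : Facts D tabs simps)

theorem torusSL_eq {a : F} (ha : a ≠ 0) : torusSL a =
    upperSL a * lowerSL (-a⁻¹) * upperSL a * (upperSL (-1) * lowerSL 1 * upperSL (-1)) := by
  apply Subtype.ext
  simp only [Matrix.SpecialLinearGroup.coe_mul, coe_torusSL ha]
  ext i j; fin_cases i <;> fin_cases j <;>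
    simp [coe_upperSL, coe_lowerSL, Matrix.mul_apply, Fin.sum_univ_two, ha]

theorem flipSL_eq : (flipSL : SL(2, F)) = upperSL 1 * lowerSL (-1) * upperSL 1 := by
  apply Subtype.ext
  simp only [Matrix.SpecialLinearGroup.coe_mul]
  ext i j; fin_cases i <;> fin_cases j <;>
    simp [coe_upperSL, coe_lowerSL, coe_flipSL, Matrix.mul_apply, Fin.sum_univ_two]

include hG

theorem ne'_mem_group {r : ℕ} (hr : r < D.nroots) (u : F) : ne' hG r u ∈ D.group F :=
  Subgroup.mul_mem _ (Subgroup.mul_mem _ (xe_mem_group hG hr u) (xe_mem_group hG (hG.neg_lt hr) _))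
    (xe_mem_group hG hr u)

theorem torusHom_mem_group (c : Fin D.rank → Fˣ) : torusHom F D c ∈ D.group F := by
  have h : torusHom F D c ∈ D.diagonalSubgroup F := by rw [diagonal_eq_range hG]; exact ⟨c, rfl⟩
  refine (show D.diagonalSubgroup F ≤ D.group F from ?_) h
  rw [ChevalleyDatum.diagonalSubgroup, Subgroup.closure_le]
  rintro g ⟨r, t, hr, -, hg⟩
  obtain rfl : g = he hG r t := Units.ext (hg.trans (coe_he hG r t).symm)
  exact Subgroup.mul_mem _ (ne'_mem_group hG hr _) (ne'_mem_group hG hr _)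

theorem conj_torusHom (i : Fin D.rank) (c : Fin D.rank → Fˣ) :
    ∃ a, ne' hG (D.simple i.val) 1 * torusHom F D c * (ne' hG (D.simple i.val) 1)⁻¹ =
      torusHom F D (c * Pi.mulSingle i a) := by
  refine ⟨(torusChar D c (D.simple i.val))⁻¹, mul_inv_eq_iff_eq_mul.2 (Units.ext ?_)⟩
  obtain ⟨cc, hV⟩ := id hG
  rw [Units.val_mul, Units.val_mul, coe_ne', coe_torusHom, coe_torusHom, hV.nMat_mul_hdiag i.2]
  congr 1
  refine hdiag_congr D fun s hs => ?_
  rw [← hV.w_eq_reflectRoot i.2 hs, torusChar_mul]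
  congr 1
  have h1 : torusChar D (Pi.mulSingle i (torusChar D c (D.simple i.val))⁻¹) s =
      torusChar D c (D.simple i.val) ^ (-D.cartan i.val s) := by
    rw [torusChar, Finset.prod_eq_single i]
    · rw [Pi.mulSingle_eq_same, inv_zpow, zpow_neg]
    · intro j _ hj; simp [Pi.mulSingle_eq_of_ne hj]
    · simp
  rw [h1]
  simp only [torusChar, ← Finset.prod_zpow, ← Finset.prod_mul_distrib, ← zpow_mul, ← zpow_add]
  refine Finset.prod_congr rfl fun j _ => ?_
  rw [hG.cartan_reflectRoot i.2 j.2 hs]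
  ring_nf

theorem exists_rels (i : Fin D.rank) :
    ∃ φ : SL(2, F) →* GL D.Idx F, (∀ t, φ (upperSL t) = xe hG (D.simple i.val) t) ∧
      φ flipSL = ne' hG (D.simple i.val) 1 ∧
      ∀ a : Fˣ, φ (torusSL (a : F)) = torusHom F D (Pi.mulSingle i a) := by
  obtain ⟨φ, h1, h2⟩ := hG.exists_sl2_hom (F := F) (hG.simple_lt i.2)
  have hx : ∀ r t, xg D F r t = xe hG r t := fun r t => Units.ext ((hG.coe_xg r t).trans (coe_xe hG r t).symm)
  simp only [hx] at h1 h2
  refine ⟨φ, h1, ?_, fun a => ?_⟩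
  · rw [flipSL_eq, map_mul, map_mul, h1, h2, ne', inv_one]
  · rw [torusSL_eq a.ne_zero, torusHom_single hG, he]
    simp only [map_mul, h1, h2, ne', inv_neg, inv_one, neg_neg]

variable [Fintype F]

/-- The root data of the group itself. -/
def chevData : Data ↥(D.group F) (Fin D.nroots) (Fin D.rank) :=
  restrictData (data hG F) (D.group F) (fun i => ne'_mem_group hG (hG.simple_lt i.2) 1)
    (fun r => ne'_mem_group hG r.2 1)

include hf

theorem exists_setup (p : ℕ) [Fact p.Prime] [CharP F p] (hinj : Function.Injective (torusHom F D))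
    {w0 : List ℕ} (hw : IsLongest D tabs w0) : Nonempty (Setup (chevData hG (F := F)) F p) := by
  classical
  have hK := data_grp hG (F := F)
  have ax := axioms (F := F) hG hf
  have hX : ∀ r, (data hG F).X r ≤ D.group F := fun r => hK ▸ Data.X_le_grp r
  obtain ⟨l0, hl0⟩ := exists_longest (F := F) hG hf hw
  refine ⟨
  { ax := restrict_axioms ax hK
    top := restrict_grp hK
    x := fun i t => ⟨xe hG (D.simple i.val) t, xe_mem_group hG (hG.simple_lt i.2) t⟩
    X_eq := ?_
    x_inj := ?_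
    tor := (torusHom F D).codRestrict (D.group F) (torusHom_mem_group hG)
    tor_inj := fun a b h => hinj (congrArg Subtype.val h)
    H_eq := ?_
    rels := ?_
    conj_tor := fun i c => ?_
    U_inf_H := ?_
    isPGroup := ?_
    l0 := l0
    longest := fun r hr h => (hl0 r).1 h hr }⟩
  · intro i y
    refine (mem_rootSubgroup hG (hG.simple_lt i.2)).trans ⟨?_, ?_⟩
    · rintro ⟨t, ht⟩
      exact ⟨t, Subtype.ext (ht : (y : GL D.Idx F) = _).symm⟩
    · rintro ⟨t, rfl⟩
      exact ⟨t, rfl⟩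
  · intro i s t h
    by_contra hne
    refine xe_ne_one hG hf (hG.simple_lt i.2) (sub_ne_zero.2 hne) ?_
    rw [sub_eq_add_neg, ← xe_add hG (hG.simple_lt i.2), ← xe_inv hG (hG.simple_lt i.2),
      show xe hG (D.simple i.val) s = xe hG (D.simple i.val) t from congrArg Subtype.val h, mul_inv_cancel]
  · intro h
    show (h : GL D.Idx F) ∈ D.diagonalSubgroup F ↔ _
    rw [diagonal_eq_range hG]
    exact ⟨fun ⟨c, hc⟩ => ⟨c, Subtype.ext hc⟩, fun ⟨c, hc⟩ => ⟨c, congrArg Subtype.val hc⟩⟩
  · intro i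
    obtain ⟨φ, hx, hn, hh⟩ := exists_rels (F := F) hG i
    have hh' : ∀ a : F, φ (torusSL a) =
        ((hel ((torusHom F D).codRestrict (D.group F) (torusHom_mem_group hG)) i a : ↥(D.group F)) :
          GL D.Idx F) := by
      intro a
      unfold hel
      split_ifs with ha
      · subst ha
        rw [show torusSL (0 : F) = 1 from dif_pos rfl, map_one]; rfl
      · exact hh (Units.mk0 a ha)
    have hn' : φ flipSL = (((chevData hG (F := F)).nn i : ↥(D.group F)) : GL D.Idx F) := hn
    have s := sl2Rels_SL (F := F)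
    refine ⟨fun a b => ?_, fun a b ha hb => ?_, fun a t ha => ?_, fun a ha => ?_, ?_, fun u hu => ?_⟩ <;>
      apply Subtype.ext <;>
      simp only [Subgroup.coe_mul, Subgroup.coe_inv, ← hh', ← hx, ← hn', ← map_inv, ← map_mul]
    · rw [s.add]
    · rw [s.hmul a b ha hb]
    · rw [s.conj a t ha]
    · rw [s.nH a ha]
    · rw [s.nn]
    · rw [s.flip u hu]
  · obtain ⟨a, ha⟩ := conj_torusHom (F := F) hG i c
    exact ⟨a, Subtype.ext ha⟩
  · rw [Subgroup.eq_bot_iff_forall]
    rintro g ⟨hu, hh⟩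
    have h1 : (g : GL D.Idx F) ∈ D.posUnipotent F ⊓ D.diagonalSubgroup F :=
      ⟨(data_U hG hf).le ((mem_U_restrict hX).1 hu), hh⟩
    rw [U_inf_H hf hG, Subgroup.mem_bot] at h1
    exact Subtype.ext h1
  · have hU : IsPGroup p ↥(data hG F).U := by
      obtain ⟨n, -, hn⟩ := FiniteField.card F p
      refine IsPGroup.of_card (n := (n : ℕ) * (D.nroots / 2)) ?_
      rw [data_U hG hf, card_U hf hG, hn, pow_mul]
    intro g
    obtain ⟨e, he⟩ := hU ⟨((g : ↥(D.group F)) : GL D.Idx F), (mem_U_restrict hX).1 g.2⟩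
    exact ⟨e, Subtype.ext (Subtype.ext (congrArg Subtype.val he :))⟩

/-- Steinberg's count of semisimple classes. -/
theorem card_semisimple_classes (p : ℕ) [Fact p.Prime] [CharP F p]
    (hinj : Function.Injective (torusHom F D)) {w0 : List ℕ} (hw : IsLongest D tabs w0) :
    Nat.card {c : ConjClasses ↥(D.group F) // ∃ g : ↥(D.group F), ConjClasses.mk g = c ∧ (orderOf g).Coprime p} =
      Fintype.card F ^ D.rank := by
  classical
  obtain ⟨S⟩ := exists_setup (F := F) hG hf p hinj hw
  haveI : CharP (AlgebraicClosure F) p :=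
    charP_of_injective_algebraMap (algebraMap F (AlgebraicClosure F)).injective p
  have h := card_regClass (k := AlgebraicClosure F) S
  rw [Fintype.card_fin] at h
  rw [← h]
  refine Nat.card_congr (Equiv.subtypeEquivRight fun c => exists_congr fun g => and_congr_right fun _ => ?_)
  exact Nat.coprime_comm.trans (Nat.Prime.coprime_iff_not_dvd Fact.out)

theorem torusHom_injective {d k : ℕ} (C : KerCert D d k) (hC : C.Valid)
    (hd : Nat.gcd d (Fintype.card F - 1) = 1) : Function.Injective (torusHom F D) := by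
  classical
  rw [← MonoidHom.ker_eq_bot_iff, ← Subgroup.card_eq_one, card_ker_torusHom hG C hC, hd, one_pow]

end chev

end Cfsg.Agent.CurtisRichen
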